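/-
Area SUnPresentation: even permutations with prescribed values, and generators of three stabilisers.
-/
import Cfsg.Agent.Lib.BoundedPres.AltTwo

set_option autoImplicit false

namespace Cfsg.Agent.SUnPresentation

open Equiv Cfsg.Agent.BoundedPres

variable {n : ℕ}

/-- A permutation with prescribed values on the first points. -/
theorem exists_ext {k : ℕ} (hk : k ≤ n) {f : Fin k → Fin n} (hf : Function.Injective f) :
    ∃ σ : Perm (Fin n), ∀ i, σ (Fin.castLE hk i) = f i := by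
  classical
  let e : Set.range (Fin.castLE hk) ≃ Set.range f :=
    (Equiv.ofInjective _ (Fin.castLE_injective hk)).symm.trans (Equiv.ofInjective f hf)
  refine ⟨e.extendSubtype, fun i => ?_⟩
  rw [Equiv.extendSubtype_apply_of_mem e _ ⟨i, rfl⟩]
  simp [e]

/-- An even one when two points are free. -/
theorem exists_even_free {k : ℕ} (hk : k + 2 ≤ n) {f : Fin k → Fin n} (hf : Function.Injective f) :
    ∃ g : alternatingGroup (Fin n), ∀ (i : Fin k) (h : (i : ℕ) < n), (g : Perm (Fin n)) ⟨i, h⟩ = f i := by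
  obtain ⟨σ, hσ⟩ := exists_ext (by omega : k ≤ n) hf
  rcases Int.units_eq_one_or (Perm.sign σ) with h | h
  · exact ⟨⟨σ, h⟩, fun i _ => hσ i⟩
  · have hne : (⟨k, by omega⟩ : Fin n) ≠ ⟨k + 1, by omega⟩ := by simp [Fin.ext_iff]
    refine ⟨⟨σ * swap ⟨k, by omega⟩ ⟨k + 1, by omega⟩, by
      rw [Perm.mem_alternatingGroup, map_mul, h, Perm.sign_swap hne]; rfl⟩, fun i hi => ?_⟩
    have := i.2
    show σ (swap _ _ _) = _
    rw [swap_apply_of_ne_of_ne (by simp [Fin.ext_iff]; omega) (by simp [Fin.ext_iff]; omega)]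
    exact hσ i

/-- An even one when the order of two values is free. -/
theorem exists_even_swap {k : ℕ} (hk : k ≤ n) {f : Fin k → Fin n} (hf : Function.Injective f) {p r : Fin k}
    (hpr : p ≠ r) : ∃ g : alternatingGroup (Fin n),
      (∀ (i : Fin k) (h : (i : ℕ) < n), i ≠ p → i ≠ r → (g : Perm (Fin n)) ⟨i, h⟩ = f i) ∧
      (((g : Perm (Fin n)) (Fin.castLE hk p) = f p ∧ (g : Perm (Fin n)) (Fin.castLE hk r) = f r) ∨
        ((g : Perm (Fin n)) (Fin.castLE hk p) = f r ∧ (g : Perm (Fin n)) (Fin.castLE hk r) = f p)) := by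
  obtain ⟨σ, hσ⟩ := exists_ext hk hf
  rcases Int.units_eq_one_or (Perm.sign σ) with h | h
  · exact ⟨⟨σ, h⟩, fun i _ _ _ => hσ i, Or.inl ⟨hσ p, hσ r⟩⟩
  · have hne : Fin.castLE hk p ≠ Fin.castLE hk r := fun e => hpr (Fin.castLE_injective hk e)
    refine ⟨⟨σ * swap (Fin.castLE hk p) (Fin.castLE hk r), by
      rw [Perm.mem_alternatingGroup, map_mul, h, Perm.sign_swap hne]; rfl⟩, fun i hi h1 h2 => ?_, Or.inr ⟨?_, ?_⟩⟩
    · show σ (swap _ _ (Fin.castLE hk i)) = _
      rw [swap_apply_of_ne_of_ne (fun e => h1 (Fin.castLE_injective hk e))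
        (fun e => h2 (Fin.castLE_injective hk e))]
      exact hσ i
    · show σ (swap _ _ _) = _
      rw [swap_apply_left, hσ]
    · show σ (swap _ _ _) = _
      rw [swap_apply_right, hσ]

/-- The shift by `a` on four points. -/
theorem exists_shift (hn : 5 ≤ n) {a : ℕ} (ha : a + 4 ≤ n) : ∃ g : alternatingGroup (Fin n),
    ∀ i : ℕ, ∀ h : i < 4, (((g : Perm (Fin n)) ⟨i, by omega⟩ : Fin n) : ℕ) = a + i := by
  by_cases h5 : n = 5
  · subst h5
    rcases (by omega : a = 0 ∨ a = 1) with rfl | rfl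
    · exact ⟨1, fun i h => by simp⟩
    · refine ⟨⟨finRotate 5, by rw [Perm.mem_alternatingGroup, sign_finRotate]; rfl⟩, fun i h => ?_⟩
      rw [show (1 : ℕ) + i = i + 1 by omega]
      exact coe_finRotate_of_ne_last (by simp [Fin.ext_iff]; omega)
  · obtain ⟨g, hg⟩ := exists_even_free (k := 4) (by omega : 4 + 2 ≤ n)
      (f := fun i => (⟨a + i, by omega⟩ : Fin n)) fun i j e => Fin.ext (by simpa [Fin.ext_iff] using e)
    exact ⟨g, fun i h => congrArg Fin.val (hg ⟨i, h⟩ (by omega))⟩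

/-- `h` maps the first `k` points to themselves. -/
def Stab (k : ℕ) (h : Perm (Fin n)) : Prop := ∀ x : Fin n, (x : ℕ) < k → (h x : ℕ) < k

theorem Stab.inv {k : ℕ} {h : Perm (Fin n)} (hh : Stab k h) : Stab k h⁻¹ := by
  classical
  intro x hx
  have hinj : Function.Injective fun y : {y : Fin n // (y : ℕ) < k} => (⟨h y, hh y y.2⟩ : {y : Fin n // (y : ℕ) < k}) :=
    fun y z e => Subtype.ext (h.injective (congrArg Subtype.val e))
  obtain ⟨y, hy⟩ := Finite.surjective_of_injective hinj ⟨x, hx⟩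
  rw [show h⁻¹ x = y from h.injective (by rw [Perm.inv_def, Equiv.apply_symm_apply]; exact (congrArg Subtype.val hy).symm)]
  exact y.2

/-- Two elements generate the stabiliser of the pair `{1, 2}` fixing `0`. -/
theorem exists_three_stab (hn : 3 ≤ n) : ∃ u v : alternatingGroup (Fin n),
    (∀ g ∈ ({u, v} : Set (alternatingGroup (Fin n))), (g : Perm (Fin n)) ⟨0, by omega⟩ = ⟨0, by omega⟩ ∧ Stab 3 (g : Perm (Fin n))) ∧
      ∀ g : alternatingGroup (Fin n), (g : Perm (Fin n)) ⟨0, by omega⟩ = ⟨0, by omega⟩ → Stab 3 (g : Perm (Fin n)) →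
        g ∈ Subgroup.closure ({u, v} : Set (alternatingGroup (Fin n))) := by
  obtain ⟨k, rfl⟩ : ∃ k, n = 2 + k + 1 := ⟨n - 3, by omega⟩
  obtain ⟨u, v, hu, hv, huv⟩ := exists_pair_stab k
  let s : Perm (Fin (2 + k)) →* Perm (Fin (2 + k + 1)) :=
    { toFun := fun e => Equiv.Perm.decomposeFin.symm (0, e)
      map_one' := by rw [Equiv.Perm.decomposeFin_symm_of_one, swap_self]; rfl
      map_mul' := fun a b => Equiv.ext fun x => by
        refine Fin.cases ?_ (fun y => ?_) x <;> simp }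
  have hs : ∀ e, Perm.sign (s e) = Perm.sign e := fun e => by
    show Perm.sign (Equiv.Perm.decomposeFin.symm (0, e)) = _
    rw [Equiv.Perm.decomposeFin.symm_sign, if_pos rfl, one_mul]
  have hs0 : ∀ e, s e 0 = 0 := fun e => Equiv.Perm.decomposeFin_symm_apply_zero _ _
  have hss : ∀ e (y : Fin (2 + k)), s e y.succ = (e y).succ := fun e y => by
    show Equiv.Perm.decomposeFin.symm (0, e) y.succ = _
    rw [Equiv.Perm.decomposeFin_symm_apply_succ, swap_self, Equiv.refl_apply]
  let t : alternatingGroup (Fin (2 + k)) →* alternatingGroup (Fin (2 + k + 1)) :=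
    (s.comp (alternatingGroup (Fin (2 + k))).subtype).codRestrict _ fun e => (hs e).trans e.2
  have hstab : ∀ e : Perm (Fin (2 + k)), (∀ x : Fin (2 + k), (x : ℕ) < 2 → (e x : ℕ) < 2) → Stab 3 (s e) := by
    intro e he x hx
    obtain rfl | ⟨y, rfl⟩ := Fin.eq_zero_or_eq_succ x
    · rw [hs0]; simp
    · rw [hss, Fin.val_succ]
      have := he y (by simp at hx; omega)
      omega
  refine ⟨t u, t v, ?_, fun g hg0 hg => ?_⟩
  · rintro g (rfl | rfl)
    exacts [⟨hs0 _, hstab _ hu⟩, ⟨hs0 _, hstab _ hv⟩]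
  obtain ⟨⟨p, e⟩, he⟩ := Equiv.Perm.decomposeFin.symm.surjective (g : Perm (Fin (2 + k + 1)))
  obtain rfl : p = 0 := by
    have : (g : Perm (Fin (2 + k + 1))) 0 = 0 := hg0
    rw [← this, ← he, Equiv.Perm.decomposeFin_symm_apply_zero]
  have hev : Perm.sign e = 1 := by rw [← hs e]; exact (congrArg Perm.sign he).trans g.2
  have hmem := huv ⟨e, hev⟩ fun y hy => by
    have h1 := hg y.succ (by simp; omega)
    rw [← he] at h1
    have h2 := hss e y
    change Equiv.Perm.decomposeFin.symm (0, e) y.succ = _ at h2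
    rw [h2, Fin.val_succ] at h1
    exact (by omega : ((e y : Fin _) : ℕ) < 2)
  have h1 : t ⟨e, hev⟩ ∈ (Subgroup.closure {u, v}).map t := ⟨_, hmem, rfl⟩
  rw [MonoidHom.map_closure, Set.image_insert_eq, Set.image_singleton] at h1
  exact (show t ⟨e, hev⟩ = g from Subtype.ext he) ▸ h1

theorem sign_via {m : ℕ} (ι : Fin m ↪ Fin n) (e : Perm (Fin m)) :
    Perm.sign (e.viaEmbedding ι) = Perm.sign e := by
  rw [show e.viaEmbedding ι = e.viaFintypeEmbedding ι from Equiv.ext fun x => ?_, Perm.viaFintypeEmbedding_sign]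
  by_cases hx : x ∈ Set.range ι
  · obtain ⟨i, rfl⟩ := hx
    rw [Perm.viaEmbedding_apply, Perm.viaFintypeEmbedding_apply_image]
  · rw [Perm.viaEmbedding_apply_of_notMem _ _ _ hx, Perm.viaFintypeEmbedding_apply_notMem_range _ _ hx]

/-- The alternating group of the first four points. -/
noncomputable def four (hn : 4 ≤ n) : alternatingGroup (Fin 4) →* alternatingGroup (Fin n) :=
  ((Perm.viaEmbeddingHom (Fin.castLEEmb hn)).comp (alternatingGroup (Fin 4)).subtype).codRestrict _ fun e => by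
    rw [Perm.mem_alternatingGroup, MonoidHom.comp_apply, Perm.viaEmbeddingHom_apply, sign_via]
    exact e.2

theorem four_apply (hn : 4 ≤ n) (e : alternatingGroup (Fin 4)) (i : Fin 4) :
    (four hn e : Perm (Fin n)) (Fin.castLE hn i) = Fin.castLE hn ((e : Perm (Fin 4)) i) :=
  Perm.viaEmbedding_apply _ (Fin.castLEEmb hn) i

theorem four_out (hn : 4 ≤ n) (e : alternatingGroup (Fin 4)) {x : Fin n} (hx : 4 ≤ (x : ℕ)) :
    (four hn e : Perm (Fin n)) x = x :=
  Perm.viaEmbedding_apply_of_notMem _ _ _ fun ⟨i, hi⟩ => by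
    have := congrArg Fin.val hi
    have := i.2
    simp at *
    omega

theorem exists_four (hn : 4 ≤ n) {g : alternatingGroup (Fin n)}
    (hg : ∀ x : Fin n, 4 ≤ (x : ℕ) → (g : Perm (Fin n)) x = x) : ∃ e, four hn e = g := by
  have hst : Stab 4 (g : Perm (Fin n)) := fun x hx => by
    by_contra h
    have := (g : Perm (Fin n)).injective (hg _ (not_lt.1 h))
    omega
  let e : Perm (Fin 4) :=
    { toFun := fun i => ⟨((g : Perm (Fin n)) (Fin.castLE hn i) : Fin n), hst _ i.2⟩
      invFun := fun i => ⟨((g : Perm (Fin n))⁻¹ (Fin.castLE hn i) : Fin n), hst.inv _ i.2⟩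
      left_inv := fun i => Fin.ext (by simp)
      right_inv := fun i => Fin.ext (by simp) }
  have he : (Perm.viaEmbeddingHom (Fin.castLEEmb hn)) e = (g : Perm (Fin n)) := Equiv.ext fun x => by
    rw [Perm.viaEmbeddingHom_apply]
    by_cases hx : (x : ℕ) < 4
    · rw [show x = Fin.castLEEmb hn ⟨x, hx⟩ from Fin.ext rfl, Perm.viaEmbedding_apply]
      exact Fin.ext rfl
    · rw [Perm.viaEmbedding_apply_of_notMem _ _ _ fun ⟨i, hi⟩ => by subst hi; exact hx i.2]
      exact (hg x (by omega)).symm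
  have hs : Perm.sign e = 1 := by
    rw [← sign_via (Fin.castLEEmb hn) e, ← Perm.viaEmbeddingHom_apply, he]
    exact g.2
  exact ⟨⟨e, hs⟩, Subtype.ext he⟩

/-- Two elements generate the even permutations of the first four points. -/
theorem exists_four_gens (hn : 4 ≤ n) : ∃ u v : alternatingGroup (Fin n),
    (∀ x : Fin n, 4 ≤ (x : ℕ) → (u : Perm (Fin n)) x = x ∧ (v : Perm (Fin n)) x = x) ∧
      ∀ g : alternatingGroup (Fin n), (∀ x : Fin n, 4 ≤ (x : ℕ) → (g : Perm (Fin n)) x = x) →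
        g ∈ Subgroup.closure ({u, v} : Set (alternatingGroup (Fin n))) := by
  obtain ⟨u, v, huv⟩ := exists_two_gen_alt 4
  refine ⟨four hn u, four hn v, fun x hx => ⟨four_out hn u hx, four_out hn v hx⟩, fun g hg => ?_⟩
  obtain ⟨e, rfl⟩ := exists_four hn hg
  have h1 : four hn e ∈ (Subgroup.closure {u, v}).map (four hn) := ⟨_, huv ▸ Subgroup.mem_top _, rfl⟩
  rwa [MonoidHom.map_closure, Set.image_insert_eq, Set.image_singleton] at h1

end Cfsg.Agent.SUnPresentation
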