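/-
Area SUnPresentation: permutation matrices in `SU_N`, their action on embedded subgroups, generation by blocks.
-/
import Cfsg.Agent.Lib.PhanAmalgam.Small
import Cfsg.Agent.Lib.PhanAmalgam.Four
import Cfsg.Agent.Lib.SUnPresentation.Perm

set_option autoImplicit false

open scoped Matrix

namespace Cfsg.Agent.SUnPresentation

open Equiv Cfsg.Agent.ClassicalSimple Cfsg.Agent.PhanAmalgam

variable {F : Type*} [Field F] [Fintype F] {q : ℕ} (hF : Fintype.card F = q ^ 2)
variable {N : ℕ}

include hF in
theorem permMat_mem (g : alternatingGroup (Fin N)) :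
    ∃ y : Cfsg.SU N F q, ∀ v : Fin N → F, y.1.1 *ᵥ v = v ∘ (g : Perm (Fin N)).symm := by
  classical
  set τ : Perm (Fin N) := (g : Perm (Fin N))⁻¹
  set M : Matrix (Fin N) (Fin N) F := Perm.permMatrix F τ
  have hmul : ∀ v : Fin N → F, M *ᵥ v = v ∘ τ := fun v => Matrix.permMatrix_mulVec τ
  have hdet : M.det = 1 := by
    rw [Matrix.det_permutation, Perm.sign_inv, g.2]
    simp
  refine ⟨⟨⟨M, hdet⟩, (mem_SU_iff hF _).2 fun u v => ?_⟩, hmul⟩
  show Forms.hermB hF N (M *ᵥ u) (M *ᵥ v) = _
  rw [hmul, hmul, hermB_sum, hermB_sum]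
  exact Equiv.sum_comp τ fun i => Forms.qEnd hF (u i) * v i

/-- Permutation matrices of even permutations. -/
noncomputable def pm : alternatingGroup (Fin N) →* Cfsg.SU N F q :=
  MonoidHom.mk' (fun g => Classical.choose (permMat_mem hF g)) fun a b => by
    refine (suEquiv hF (n := N)).injective (su_ext fun v => ?_)
    rw [map_mul, mul_smul, suEquiv_smul, suEquiv_smul, suEquiv_smul, Classical.choose_spec (permMat_mem hF (a * b)),
      Classical.choose_spec (permMat_mem hF a), Classical.choose_spec (permMat_mem hF b)]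
    rfl

theorem pm_smul (g : alternatingGroup (Fin N)) (v : Fin N → F) (i : Fin N) :
    (suEquiv hF (pm hF g) • v) ((g : Perm (Fin N)) i) = v i := by
  rw [suEquiv_smul]
  refine (congrFun (Classical.choose_spec (permMat_mem hF g) v) _).trans ?_
  simp

theorem pm_E (g : alternatingGroup (Fin N)) (j : Fin N) :
    suEquiv hF (pm hF g) • (E j : Fin N → F) = E ((g : Perm (Fin N)) j) := by
  funext i
  obtain ⟨k, rfl⟩ := (g : Perm (Fin N)).surjective i
  rw [pm_smul, E_apply, E_apply]
  simp

theorem eq_of_E {x y : Cfsg.SU N F q}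
    (h : ∀ j, suEquiv hF x • (E j : Fin N → F) = suEquiv hF y • (E j : Fin N → F)) : x = y := by
  refine Subtype.ext (Subtype.ext ?_)
  ext i j
  have e := congrFun (h j) i
  rwa [suEquiv_smul, suEquiv_smul, mulVec_single_one, mulVec_single_one] at e

theorem pm_conj_embS {m : ℕ} {f : Fin m → Fin N} (hf : Function.Injective f) (g : alternatingGroup (Fin N))
    (x : Cfsg.SU m F q) :
    pm hF g * embS hF hf x * (pm hF g)⁻¹ = embS hF ((g : Perm (Fin N)).injective.comp hf) x := by
  rw [mul_inv_eq_iff_eq_mul]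
  refine (suEquiv hF (n := N)).injective (su_ext fun v => ?_)
  rw [map_mul, map_mul, mul_smul, mul_smul]
  funext i
  obtain ⟨k, rfl⟩ := (g : Perm (Fin N)).surjective i
  rw [pm_smul]
  by_cases hk : k ∈ Set.range f
  · obtain ⟨l, rfl⟩ := hk
    refine (embH_in hF hf x v l).trans (Eq.trans ?_ (embH_in hF ((g : Perm (Fin N)).injective.comp hf) x _ l).symm)
    exact congrArg (fun w => (x.1.1 *ᵥ w) l) (funext fun l' => (pm_smul hF g v (f l')).symm)
  · refine (embH_out hF hf x v hk).trans (Eq.trans ?_
      (embH_out hF ((g : Perm (Fin N)).injective.comp hf) x _ ?_).symm)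
    · exact (pm_smul hF g v k).symm
    · rintro ⟨l, hl⟩
      exact hk ⟨l, (g : Perm (Fin N)).injective hl⟩

theorem embS_comp {k m : ℕ} {g : Fin k → Fin m} {f : Fin m → Fin N} (hg : Function.Injective g)
    (hf : Function.Injective f) (x : Cfsg.SU k F q) :
    embS hF hf (embS hF hg x) = embS hF (hf.comp hg) x :=
  (suEquiv hF (n := N)).injective (embH_comp hF hg hf x)

theorem embS_congr {m : ℕ} {f f' : Fin m → Fin N} (e : ∀ k, f k = f' k) (hf : Function.Injective f)
    (hf' : Function.Injective f') (x : Cfsg.SU m F q) : embS hF hf x = embS hF hf' x := by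
  obtain rfl : f = f' := funext e
  rfl

theorem embS_injective {m : ℕ} {f : Fin m → Fin N} (hf : Function.Injective f) :
    Function.Injective (embS hF hf (q := q)) := fun _ _ e => embH_injective hF hf (congrArg (suEquiv hF) e)

theorem embS_commute {m m' : ℕ} {f : Fin m → Fin N} (hf : Function.Injective f) {f' : Fin m' → Fin N}
    (hf' : Function.Injective f') (hd : ∀ k l, f k ≠ f' l) (x : Cfsg.SU m F q) (y : Cfsg.SU m' F q) :
    Commute (embS hF hf x) (embS hF hf' y) := by
  refine (suEquiv hF (n := N)).injective (su_ext fun v => ?_)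
  rw [map_mul, map_mul, mul_smul, mul_smul]
  show embH hF hf x • embH hF hf' y • v = embH hF hf' y • embH hF hf x • v
  funext i
  by_cases hi : i ∈ Set.range f
  · obtain ⟨k, rfl⟩ := hi
    have h' : ∀ k, f k ∉ Set.range f' := fun k ⟨l, hl⟩ => hd k l hl.symm
    rw [embH_in, embH_out hF hf' y _ (h' k), embH_in]
    exact congrArg (fun w => (x.1.1 *ᵥ w) k) (funext fun l => embH_out hF hf' y v (h' l))
  · rw [embH_out hF hf x _ hi]
    by_cases hi' : i ∈ Set.range f'
    · obtain ⟨k, rfl⟩ := hi'
      have h' : ∀ k, f' k ∉ Set.range f := fun k ⟨l, hl⟩ => hd l k hl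
      rw [embH_in, embH_in]
      exact congrArg (fun w => (y.1.1 *ᵥ w) k) (funext fun l => (embH_out hF hf x v (h' l)).symm)
    · rw [embH_out hF hf' y _ hi', embH_out hF hf' y _ hi', embH_out hF hf x _ hi]

/-- A subgroup containing the consecutive three-dimensional blocks is everything. -/
theorem blocks_gen (hN : 3 ≤ N) (K : Subgroup (SUH (Forms.hermB hF N)))
    (hK : ∀ i, i + 3 ≤ N → ∀ x : Cfsg.SU 3 F q, embAt hF N 3 i x ∈ K) : K = ⊤ := by
  classical
  let L : SUH (Forms.hermB hF N) →* Perm (Option (SUH (Forms.hermB hF N) ⧸ K)) :=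
    { toFun := fun g => Equiv.optionCongr (MulAction.toPerm g)
      map_one' := Equiv.ext fun o => by cases o <;> simp
      map_mul' := fun a b => Equiv.ext fun o => by cases o <;> simp [mul_smul] }
  set s : Perm (Option (SUH (Forms.hermB hF N) ⧸ K)) := Equiv.swap none (some (QuotientGroup.mk 1))
  have hsK : ∀ g ∈ K, s * L g * s⁻¹ = L g := by
    intro g hg
    have h1 : g • (QuotientGroup.mk 1 : SUH (Forms.hermB hF N) ⧸ K) = QuotientGroup.mk 1 := by
      show QuotientGroup.mk (g * 1) = _
      rw [mul_one]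
      exact QuotientGroup.eq.2 (by simpa using hg)
    rw [mul_inv_eq_iff_eq_mul]
    have hL : L g none = none ∧ L g (some (QuotientGroup.mk 1)) = some (QuotientGroup.mk 1) :=
      ⟨rfl, congrArg some h1⟩
    exact Equiv.ext fun o => by
      show s (L g o) = L g (s o)
      rcases eq_or_ne o none with rfl | h
      · rw [hL.1, Equiv.swap_apply_left, hL.2]
      rcases eq_or_ne o (some (QuotientGroup.mk 1)) with rfl | h'
      · rw [hL.2, Equiv.swap_apply_right, hL.1]
      rw [Equiv.swap_apply_of_ne_of_ne h h', Equiv.swap_apply_of_ne_of_ne]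
      · exact fun e => h ((L g).injective (e.trans hL.1.symm))
      · exact fun e => h' ((L g).injective (e.trans hL.2.symm))
  rw [eq_top_iff]
  intro g _
  have e := rigid_all hF (N := N) N 0 hN (by omega) (fun g => s * L g * s⁻¹) L (fun x _ y _ => by rw [map_mul]; group)
    (fun x _ y _ => map_mul L x y) (fun i _ hi x => hsK _ (hK i (by omega) x)) g
    ((mem_blk hF).2 fun j hj => by omega)
  have e' := DFunLike.congr_fun e (none : Option (SUH (Forms.hermB hF N) ⧸ K))
  have h2 : s (L g (s⁻¹ none)) = none := e'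
  rw [show s⁻¹ = s from Equiv.swap_inv _ _, Equiv.swap_apply_left, show
    L g (some (QuotientGroup.mk 1)) = some (QuotientGroup.mk (g * 1)) from rfl] at h2
  by_contra hg
  rw [Equiv.swap_apply_of_ne_of_ne (by simp)] at h2
  · exact Option.some_ne_none _ h2
  · rw [mul_one]
    intro h3
    exact hg (by simpa using QuotientGroup.eq.1 (Option.some_injective _ h3))

include hF in
theorem center_cyclic (hN : 3 ≤ N) : IsCyclic (Subgroup.center ↥(Cfsg.SU N F q)) := by
  have h0 : 0 < N := by omega
  have hs : ∀ z : Subgroup.center ↥(Cfsg.SU N F q), ∃ a : F, ∀ x : Fin N → F, suEquiv hF z.1 • x = a • x := fun z => by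
    obtain ⟨a, -, -, h⟩ := central_scalar hF hN z.2
    exact ⟨a, h⟩
  choose c hc using hs
  have hval : ∀ z (j : Fin N), suEquiv hF z.1 • (E j : Fin N → F) = c z • E j := fun z j => hc z _
  let f : Subgroup.center ↥(Cfsg.SU N F q) →* F :=
    { toFun := c
      map_one' := by
        have e := congrFun (hval 1 ⟨0, h0⟩) ⟨0, h0⟩
        simpa using e.symm
      map_mul' := fun a b => by
        have e := congrFun (hval (a * b) ⟨0, h0⟩) ⟨0, h0⟩
        rw [Subgroup.coe_mul, map_mul, mul_smul, hc b, su_scal, hc a] at e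
        simp at e
        rw [← e]; ring }
  refine isCyclic_of_injective_ringHom f fun a b e => Subtype.ext (eq_of_E hF fun j => ?_)
  rw [hval, hval]
  exact congrArg (· • (E j : Fin N → F)) e

end Cfsg.Agent.SUnPresentation
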