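/-
Area SUnPresentation: a group generated by `A_n` and `SU₄` with the two gluing conditions, mapping to `SU_n`.
-/
import Cfsg.Agent.Lib.SUnPresentation.Mat

set_option autoImplicit false

open scoped Matrix

namespace Cfsg.Agent.SUnPresentation

open Equiv Cfsg.Agent.ClassicalSimple Cfsg.Agent.PhanAmalgam Cfsg.Agent.BoundedPres

variable {F : Type*} [Field F] [Fintype F] {q : ℕ} (hF : Fintype.card F = q ^ 2)

/-- The images of the first points. -/
def pts {n m : ℕ} (hm : m ≤ n) (g : alternatingGroup (Fin n)) (k : Fin m) : Fin n :=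
  (g : Perm (Fin n)) (Fin.castLE hm k)

theorem pts_injective {n m : ℕ} (hm : m ≤ n) (g : alternatingGroup (Fin n)) : Function.Injective (pts hm g) :=
  (g : Perm (Fin n)).injective.comp (Fin.castLE_injective hm)

/-- The data on `G`. -/
structure Sys (n : ℕ) (hn : 5 ≤ n) (G : Type*) [Group G] where
  a : alternatingGroup (Fin n) →* G
  ι : Cfsg.SU 4 F q →* G
  π : G →* Cfsg.SU n F q
  hπa : ∀ g, π (a g) = pm hF g
  hπι : ∀ x, π (ι x) = embS hF (Fin.castLE_injective (by omega : 4 ≤ n)) x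
  G1 : ∀ h : alternatingGroup (Fin n), (∀ x : Fin n, 4 ≤ (x : ℕ) → (h : Perm (Fin n)) x = x) → a h ∈ ι.range
  G2 : ∀ h : alternatingGroup (Fin n), Stab 2 (h : Perm (Fin n)) → ∀ x : Cfsg.SU 2 F q,
    a h * ι (embS hF (Fin.castLE_injective (by norm_num : 2 ≤ 4)) x) * (a h)⁻¹ ∈
      (ι.comp (embS hF (Fin.castLE_injective (by norm_num : 2 ≤ 4)))).range
  gen : a.range ⊔ ι.range = ⊤

variable {hF}
variable {n : ℕ} {hn : 5 ≤ n} {G : Type*} [Group G] (S : Sys hF n hn G)

namespace Sys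

/-- The image of the first four coordinates moved by `g`. -/
noncomputable def W (g : alternatingGroup (Fin n)) : Subgroup G :=
  ((MulAut.conj (S.a g)).toMonoidHom.comp S.ι).range

/-- The block on the first `m` coordinates moved by `g`. -/
noncomputable def H (g : alternatingGroup (Fin n)) {m : ℕ} (hm : m ≤ 4) : Cfsg.SU m F q →* G :=
  (MulAut.conj (S.a g)).toMonoidHom.comp (S.ι.comp (embS hF (Fin.castLE_injective hm)))

theorem H_apply (g : alternatingGroup (Fin n)) {m : ℕ} (hm : m ≤ 4) (x : Cfsg.SU m F q) :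
    S.H g hm x = S.a g * S.ι (embS hF (Fin.castLE_injective hm) x) * (S.a g)⁻¹ := rfl

theorem H_le_W (g : alternatingGroup (Fin n)) {m : ℕ} (hm : m ≤ 4) : (S.H g hm).range ≤ S.W g := by
  rintro _ ⟨x, rfl⟩
  exact ⟨_, rfl⟩

theorem π_H (g : alternatingGroup (Fin n)) {m : ℕ} (hm : m ≤ 4) (x : Cfsg.SU m F q) :
    S.π (S.H g hm x) = embS hF (pts_injective (by omega : m ≤ n) g) x := by
  rw [H_apply, map_mul, map_mul, map_inv, S.hπa, S.hπι, embS_comp, pm_conj_embS]
  exact embS_congr hF (fun k => rfl) _ _ x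

theorem eq_of_π {g : alternatingGroup (Fin n)} {y z : G} (hy : y ∈ S.W g) (hz : z ∈ S.W g)
    (e : S.π y = S.π z) : y = z := by
  obtain ⟨x, rfl⟩ := hy
  obtain ⟨x', rfl⟩ := hz
  simp only [MonoidHom.comp_apply, MulEquiv.coe_toMonoidHom, MulAut.conj_apply, map_mul, map_inv, S.hπι,
    mul_left_inj, mul_right_inj] at e
  rw [embS_injective hF _ e]

theorem conj_H (k g : alternatingGroup (Fin n)) {m : ℕ} (hm : m ≤ 4) (x : Cfsg.SU m F q) :
    S.a k * S.H g hm x * (S.a k)⁻¹ = S.H (k * g) hm x := by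
  rw [H_apply, H_apply, map_mul]; group

theorem H_one (hm : 2 ≤ 4) (x : Cfsg.SU 2 F q) :
    S.H 1 hm x = S.ι (embS hF (Fin.castLE_injective hm) x) := by
  simp [H_apply]

theorem W_mul_le (g : alternatingGroup (Fin n)) {h : alternatingGroup (Fin n)} (hh : S.a h ∈ S.ι.range) :
    S.W (g * h) ≤ S.W g := by
  obtain ⟨y, hy⟩ := hh
  rintro _ ⟨x, rfl⟩
  refine ⟨y * x * y⁻¹, ?_⟩
  simp only [MonoidHom.comp_apply, MulEquiv.coe_toMonoidHom, MulAut.conj_apply, map_mul, map_inv, hy, MulAut.mul_apply]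

theorem a_mem_W (g : alternatingGroup (Fin n)) {h : alternatingGroup (Fin n)}
    (hh : ∀ x : Fin n, 4 ≤ (x : ℕ) → (h : Perm (Fin n)) x = x) : S.a (g * h * g⁻¹) ∈ S.W g := by
  obtain ⟨y, hy⟩ := S.G1 h hh
  refine ⟨y, ?_⟩
  simp only [MonoidHom.comp_apply, MulEquiv.coe_toMonoidHom, MulAut.conj_apply, map_mul, map_inv, hy]

/-- Pairs with the same points give the same subgroup. -/
theorem R_le {g g' : alternatingGroup (Fin n)}
    (h : ∀ k : Fin 2, ∃ l : Fin 2, pts (by omega : 2 ≤ n) g k = pts (by omega : 2 ≤ n) g' l) :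
    (S.H g (by norm_num : 2 ≤ 4)).range ≤ (S.H g' (by norm_num : 2 ≤ 4)).range := by
  have hst : Stab 2 ((g'⁻¹ * g : alternatingGroup (Fin n)) : Perm (Fin n)) := fun x hx => by
    obtain ⟨l, hl⟩ := h ⟨x, hx⟩
    have e : (g : Perm (Fin n)) x = (g' : Perm (Fin n)) (Fin.castLE (by omega) l) := hl
    rw [show ((g'⁻¹ * g : alternatingGroup (Fin n)) : Perm (Fin n)) x = Fin.castLE (by omega) l from by
      show (g' : Perm (Fin n))⁻¹ ((g : Perm (Fin n)) x) = _
      rw [e, Perm.inv_def, Equiv.symm_apply_apply]]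
    exact l.2
  rintro _ ⟨x, rfl⟩
  obtain ⟨y, hy⟩ := S.G2 _ hst x
  refine ⟨y, ?_⟩
  rw [H_apply, show S.ι (embS hF _ y) = _ from hy, H_apply, map_mul, map_inv]
  group

theorem R_le_W {g ρ : alternatingGroup (Fin n)}
    (h : ∀ k : Fin 2, ∃ l : Fin 4, pts (by omega : 2 ≤ n) g k = pts (by omega : 4 ≤ n) ρ l) :
    (S.H g (by norm_num : 2 ≤ 4)).range ≤ S.W ρ := by
  choose l hl using h
  obtain ⟨e, he⟩ := exists_even_free (n := 4) (k := 2) le_rfl (f := l) fun i j e =>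
    pts_injective (by omega : 2 ≤ n) g (by rw [hl, hl, e])
  have hh : ∀ x : Fin n, 4 ≤ (x : ℕ) → (four (by omega : 4 ≤ n) e : Perm (Fin n)) x = x := fun x => four_out _ e
  refine (S.R_le (g' := ρ * four (by omega : 4 ≤ n) e) fun k => ⟨k, ?_⟩).trans
    ((S.H_le_W _ _).trans (S.W_mul_le ρ (S.G1 _ hh)))
  rw [hl k]
  show (ρ : Perm (Fin n)) _ = (ρ : Perm (Fin n)) ((four (by omega : 4 ≤ n) e : Perm (Fin n)) _)
  congr 1
  rw [show Fin.castLE (by omega : 2 ≤ n) k = Fin.castLE (by omega : 4 ≤ n) ⟨k, by omega⟩ from Fin.ext rfl,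
    four_apply, he]

theorem R_congr {g g' : alternatingGroup (Fin n)}
    (h : ∀ k, pts (by omega : 2 ≤ n) g k = pts (by omega : 2 ≤ n) g' k) (x : Cfsg.SU 2 F q) :
    S.H g (by norm_num : 2 ≤ 4) x = S.H g' (by norm_num : 2 ≤ 4) x :=
  S.eq_of_π (S.H_le_W g _ ⟨x, rfl⟩) (S.R_le_W (fun k => ⟨⟨k, by omega⟩, (h k).symm⟩) ⟨x, rfl⟩)
    (by rw [π_H, π_H]; exact embS_congr hF h _ _ x)

theorem R_comm {g g' : alternatingGroup (Fin n)}
    (h : ∀ k l : Fin 2, pts (by omega : 2 ≤ n) g k ≠ pts (by omega : 2 ≤ n) g' l) (x y : Cfsg.SU 2 F q) :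
    Commute (S.H g (by norm_num : 2 ≤ 4) x) (S.H g' (by norm_num : 2 ≤ 4) y) := by
  let f : Fin 4 → Fin n := ![pts (by omega : 2 ≤ n) g 0, pts (by omega : 2 ≤ n) g 1, pts (by omega : 2 ≤ n) g' 0, pts (by omega : 2 ≤ n) g' 1]
  have hinj : Function.Injective f := by
    have h1 := pts_injective (by omega : 2 ≤ n) g
    have h2 := pts_injective (by omega : 2 ≤ n) g'
    intro i j e
    fin_cases i <;> fin_cases j <;> simp only [f] at e <;>
      first | rfl | exact absurd e (h _ _) | exact absurd e.symm (h _ _) |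
        exact absurd (h1 e) (by decide) | exact absurd (h2 e) (by decide)
  obtain ⟨ρ, hρ, hρ'⟩ := exists_even_swap (by omega : 4 ≤ n) hinj (p := 2) (r := 3) (by decide)
  have hw : (S.H g (by norm_num : 2 ≤ 4)).range ≤ S.W ρ ∧ (S.H g' (by norm_num : 2 ≤ 4)).range ≤ S.W ρ := by
    refine ⟨S.R_le_W fun k => ?_, S.R_le_W fun k => ?_⟩
    · fin_cases k
      exacts [⟨0, (hρ 0 (by simp; omega) (by decide) (by decide)).symm⟩, ⟨1, (hρ 1 (by simp; omega) (by decide) (by decide)).symm⟩]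
    · rcases hρ' with ⟨h2, h3⟩ | ⟨h2, h3⟩ <;> fin_cases k
      exacts [⟨2, h2.symm⟩, ⟨3, h3.symm⟩, ⟨3, h3.symm⟩, ⟨2, h2.symm⟩]
  refine S.eq_of_π (mul_mem (hw.1 ⟨x, rfl⟩) (hw.2 ⟨y, rfl⟩)) (mul_mem (hw.2 ⟨y, rfl⟩) (hw.1 ⟨x, rfl⟩)) ?_
  rw [map_mul, map_mul, π_H, π_H]
  exact embS_commute hF _ _ h x y

theorem H_e01 (g : alternatingGroup (Fin n)) (x : Cfsg.SU 2 F q) :
    S.H g (by norm_num : 3 ≤ 4) (e01 hF x) = S.H g (by norm_num : 2 ≤ 4) x := by
  rw [H_apply, H_apply, e01, embS_comp]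

theorem H_e12 {g g' : alternatingGroup (Fin n)}
    (h : ∀ k : Fin 2, pts (by omega : 2 ≤ n) g' k = pts (by omega : 3 ≤ n) g k.succ) (x : Cfsg.SU 2 F q) :
    S.H g (by norm_num : 3 ≤ 4) (e12 hF x) = S.H g' (by norm_num : 2 ≤ 4) x :=
  S.eq_of_π (S.H_le_W g _ ⟨_, rfl⟩) (S.R_le_W (fun k => ⟨⟨(k : ℕ) + 1, by omega⟩, h k⟩) ⟨x, rfl⟩) (by
    rw [π_H, π_H, e12, embS_comp]
    exact embS_congr hF (fun k => (h k).symm) _ _ x)

/-- An even permutation of the first three points lies in the first block. -/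
theorem a_mem_V {k : alternatingGroup (Fin n)} (hk : ∀ x : Fin n, 3 ≤ (x : ℕ) → (k : Perm (Fin n)) x = x) :
    S.a k ∈ (S.H 1 (by norm_num : 3 ≤ 4)).range := by
  obtain ⟨y, hy⟩ := S.G1 k fun x hx => hk x (by omega)
  have hyπ : embS hF (Fin.castLE_injective (by omega : 4 ≤ n)) y = pm hF k := by rw [← S.hπι, hy, S.hπa]
  obtain ⟨z, hz⟩ := (mem_range_embS hF (Fin.castLE_injective (by omega : 3 ≤ n)) (pm hF k)).2 fun j hj => by
    rw [pm_E, hk j]
    by_contra h
    exact hj ⟨⟨j, not_le.1 h⟩, Fin.ext rfl⟩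
  refine ⟨z, S.eq_of_π (g := 1) (S.H_le_W _ _ ⟨z, rfl⟩) ⟨y, by simp [hy]⟩ ?_⟩
  rw [π_H, S.hπa, ← hz]
  exact embS_congr hF (fun k => rfl) _ _ z

/-- The pairs inside the first three points. -/
theorem R_le_V {g : alternatingGroup (Fin n)} (h : ∀ k : Fin 2, (pts (by omega : 2 ≤ n) g k : ℕ) < 3) :
    (S.H g (by norm_num : 2 ≤ 4)).range ≤ (S.H 1 (by norm_num : 3 ≤ 4)).range := by
  let f : Fin 3 → Fin 4 := ![⟨pts (by omega : 2 ≤ n) g 0, by have := h 0; omega⟩, ⟨pts (by omega : 2 ≤ n) g 1, by have := h 1; omega⟩, 3]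
  have hinj : Function.Injective f := by
    have h01 : (pts (by omega : 2 ≤ n) g 0 : ℕ) ≠ pts (by omega : 2 ≤ n) g 1 :=
      fun e => absurd (pts_injective (by omega : 2 ≤ n) g (Fin.ext e)) (by decide)
    have := h 0; have := h 1
    intro i j e
    fin_cases i <;> fin_cases j <;> simp [f, Fin.ext_iff] at e ⊢ <;> omega
  obtain ⟨e, he, he'⟩ := exists_even_swap (n := 4) (by norm_num : 3 ≤ 4) hinj (p := 0) (r := 1) (by decide)
  -- the third prescribed value is free, and the missing point is fixed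
  have h3 : (e : Perm (Fin 4)) 2 = 3 := he 2 (by decide) (by decide) (by decide)
  obtain ⟨c, hc3, hc⟩ : ∃ c : alternatingGroup (Fin 4), (c : Perm (Fin 4)) 3 = 3 ∧
      ∀ i : Fin 2, ∃ l : Fin 2, (e : Perm (Fin 4)) (Fin.castLE (by norm_num) i) = (c : Perm (Fin 4)) (Fin.castLE (by norm_num) l) := by
    have key : ∀ e : alternatingGroup (Fin 4), (e : Perm (Fin 4)) 2 = 3 → ∃ c : alternatingGroup (Fin 4),
        (c : Perm (Fin 4)) 3 = 3 ∧ ∀ i : Fin 2, ∃ l : Fin 2, (e : Perm (Fin 4)) (Fin.castLE (by norm_num) i) =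
          (c : Perm (Fin 4)) (Fin.castLE (by norm_num) l) := by decide
    exact key e h3
  set k := four (by omega : 4 ≤ n) c
  have hk : ∀ x : Fin n, 3 ≤ (x : ℕ) → (k : Perm (Fin n)) x = x := fun x hx => by
    rcases eq_or_lt_of_le hx with hx3 | hx4
    · rw [show x = Fin.castLE (by omega) (3 : Fin 4) from Fin.ext hx3.symm, four_apply, hc3]
    · exact four_out _ c hx4
  refine (S.R_le (g' := k) fun i => ?_).trans ?_
  · obtain ⟨l, hl⟩ := hc i
    obtain ⟨l', hl'⟩ : ∃ l' : Fin 2, (e : Perm (Fin 4)) (Fin.castLE (by norm_num) l') =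
        ⟨pts (by omega : 2 ≤ n) g i, by have := h i; omega⟩ := by
      rcases he' with ⟨e0, e1⟩ | ⟨e0, e1⟩ <;> fin_cases i
      exacts [⟨0, e0⟩, ⟨1, e1⟩, ⟨1, e1⟩, ⟨0, e0⟩]
    obtain ⟨l2, hl2⟩ := hc l'
    refine ⟨l2, ?_⟩
    show _ = (k : Perm (Fin n)) _
    rw [show Fin.castLE (by omega : 2 ≤ n) l2 = Fin.castLE (by omega : 4 ≤ n) (Fin.castLE (by norm_num : 2 ≤ 4) l2) from
      Fin.ext rfl, four_apply, ← hl2, hl']
    exact Fin.ext rfl
  · rintro _ ⟨x, rfl⟩
    obtain ⟨z, hz⟩ := S.a_mem_V hk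
    refine ⟨z * e01 hF x * z⁻¹, ?_⟩
    rw [map_mul, map_mul, map_inv, hz, H_e01, conj_H, mul_one]

/-- The stabiliser of the first three points normalises the first block. -/
def NormThree : Prop :=
  ∀ k : alternatingGroup (Fin n), Stab 3 (k : Perm (Fin n)) →
    (S.H k (by norm_num : 3 ≤ 4)).range ≤ (S.H 1 (by norm_num : 3 ≤ 4)).range

/-- The conditions on the three-dimensional blocks. -/
structure Three : Prop where
  N3 : S.NormThree
  UP : ∀ g : alternatingGroup (Fin n), (∀ k : Fin 2, 3 ≤ (pts (by omega : 2 ≤ n) g k : ℕ)) →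
    ∀ x y, Commute (S.H g (by norm_num : 2 ≤ 4) x) (S.H 1 (by norm_num : 3 ≤ 4) y)
  PP : ∀ g : alternatingGroup (Fin n), (∀ k : Fin 3, 3 ≤ (pts (by omega : 3 ≤ n) g k : ℕ)) →
    ∀ x y, Commute (S.H g (by norm_num : 3 ≤ 4) x) (S.H 1 (by norm_num : 3 ≤ 4) y)

theorem three_of_large (hq : 3 ≤ q) : S.Three := by
  have top : ∀ (g : alternatingGroup (Fin n)) (K : Subgroup G),
      (∀ x, S.H g (by norm_num : 2 ≤ 4) x ∈ K) →
      (∀ g', (∀ k : Fin 2, pts (by omega : 2 ≤ n) g' k = pts (by omega : 3 ≤ n) g k.succ) → ∀ x, S.H g' (by norm_num : 2 ≤ 4) x ∈ K) →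
      ∀ x, S.H g (by norm_num : 3 ≤ 4) x ∈ K := by
    intro g K h1 h2 x
    obtain ⟨g', hg'⟩ := exists_even_free (n := n) (k := 2) (by omega)
      (f := fun k => pts (by omega : 3 ≤ n) g k.succ) fun i j e => Fin.succ_injective _ (pts_injective _ g e)
    have hg'' : ∀ k : Fin 2, pts (by omega : 2 ≤ n) g' k = pts (by omega : 3 ≤ n) g k.succ :=
      fun k => hg' k (by omega)
    have : K.comap (S.H g (by norm_num : 3 ≤ 4)) = ⊤ := by
      rw [eq_top_iff, ← sup_blocks hF hq]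
      refine sup_le ?_ ?_
      · rintro _ ⟨w, rfl⟩
        rw [Subgroup.mem_comap, H_e01]; exact h1 w
      · rintro _ ⟨w, rfl⟩
        rw [Subgroup.mem_comap, S.H_e12 hg'']; exact h2 g' hg'' w
    exact (this ▸ Subgroup.mem_top x : x ∈ K.comap _)
  have up : ∀ g : alternatingGroup (Fin n), (∀ k : Fin 2, 3 ≤ (pts (by omega : 2 ≤ n) g k : ℕ)) →
      ∀ x y, Commute (S.H g (by norm_num : 2 ≤ 4) x) (S.H 1 (by norm_num : 3 ≤ 4) y) := by
    intro g hg x y
    have := top 1 (Subgroup.centralizer {S.H g (by norm_num : 2 ≤ 4) x})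
      (fun w => Subgroup.mem_centralizer_iff.2 fun _ hz => by
        rw [Set.mem_singleton_iff.1 hz]
        exact S.R_comm (fun k l e => by
          have := hg k; rw [e] at this
          simp [pts] at this; omega) x w)
      (fun g' hg' w => Subgroup.mem_centralizer_iff.2 fun _ hz => by
        rw [Set.mem_singleton_iff.1 hz]
        exact S.R_comm (fun k l e => by
          have := hg k; rw [e, hg'] at this
          simp [pts] at this; omega) x w) y
    exact Subgroup.mem_centralizer_iff.1 this _ rfl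
  refine ⟨fun k hk => ?_, up, fun g hg x y => ?_⟩
  · rintro _ ⟨x, rfl⟩
    refine top k _ (fun w => S.R_le_V (fun i => hk _ (by simp; omega)) ⟨w, rfl⟩)
      (fun g' hg' w => S.R_le_V (fun i => ?_) ⟨w, rfl⟩) x
    rw [hg']
    exact hk _ (by simp; omega)
  · have := top g (Subgroup.centralizer {S.H 1 (by norm_num : 3 ≤ 4) y})
      (fun w => Subgroup.mem_centralizer_iff.2 fun _ hz => by
        rw [Set.mem_singleton_iff.1 hz]
        exact (up g (fun k => hg ⟨k, by omega⟩) w y).symm)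
      (fun g' hg' w => Subgroup.mem_centralizer_iff.2 fun _ hz => by
        rw [Set.mem_singleton_iff.1 hz]
        exact (up g' (fun k => by rw [hg']; exact hg k.succ) w y).symm) x
    exact (Subgroup.mem_centralizer_iff.1 this _ rfl).symm

section

variable {S} (T : S.NormThree)
include T

/-- Triples with the same points give the same subgroup. -/
theorem V_le {g g' : alternatingGroup (Fin n)}
    (h : ∀ k : Fin 3, ∃ l : Fin 3, pts (by omega : 3 ≤ n) g k = pts (by omega : 3 ≤ n) g' l) :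
    (S.H g (by norm_num : 3 ≤ 4)).range ≤ (S.H g' (by norm_num : 3 ≤ 4)).range := by
  have hst : Stab 3 ((g'⁻¹ * g : alternatingGroup (Fin n)) : Perm (Fin n)) := fun x hx => by
    obtain ⟨l, hl⟩ := h ⟨x, hx⟩
    have e : (g : Perm (Fin n)) x = (g' : Perm (Fin n)) (Fin.castLE (by omega) l) := hl
    rw [show ((g'⁻¹ * g : alternatingGroup (Fin n)) : Perm (Fin n)) x = Fin.castLE (by omega) l from by
      show (g' : Perm (Fin n))⁻¹ ((g : Perm (Fin n)) x) = _
      rw [e, Perm.inv_def, Equiv.symm_apply_apply]]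
    exact l.2
  rintro _ ⟨x, rfl⟩
  obtain ⟨y, hy⟩ := T _ hst ⟨x, rfl⟩
  refine ⟨y, ?_⟩
  rw [← mul_one g', ← S.conj_H g' 1, hy, S.conj_H, mul_inv_cancel_left]

theorem V_le_W {g ρ : alternatingGroup (Fin n)}
    (h : ∀ k : Fin 3, ∃ l : Fin 4, pts (by omega : 3 ≤ n) g k = pts (by omega : 4 ≤ n) ρ l) :
    (S.H g (by norm_num : 3 ≤ 4)).range ≤ S.W ρ := by
  choose l hl using h
  obtain ⟨e, he, he'⟩ := exists_even_swap (n := 4) (by norm_num : 3 ≤ 4) (f := l)
    (fun i j e => pts_injective (by omega : 3 ≤ n) g (by rw [hl, hl, e])) (p := 0) (r := 1) (by decide)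
  have hh : ∀ x : Fin n, 4 ≤ (x : ℕ) → (four (by omega : 4 ≤ n) e : Perm (Fin n)) x = x := fun x => four_out _ e
  refine (V_le T (g' := ρ * four (by omega : 4 ≤ n) e) fun k => ?_).trans
    ((S.H_le_W _ _).trans (S.W_mul_le ρ (S.G1 _ hh)))
  obtain ⟨k', hk'⟩ : ∃ k' : Fin 3, (e : Perm (Fin 4)) (Fin.castLE (by norm_num) k') = l k := by
    rcases he' with ⟨e0, e1⟩ | ⟨e0, e1⟩ <;> fin_cases k
    exacts [⟨0, e0⟩, ⟨1, e1⟩, ⟨2, he 2 (by decide) (by decide) (by decide)⟩, ⟨1, e1⟩, ⟨0, e0⟩,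
      ⟨2, he 2 (by decide) (by decide) (by decide)⟩]
  refine ⟨k', ?_⟩
  rw [hl k]
  show (ρ : Perm (Fin n)) _ = (ρ : Perm (Fin n)) ((four (by omega : 4 ≤ n) e : Perm (Fin n)) _)
  congr 1
  rw [show Fin.castLE (by omega : 3 ≤ n) k' = Fin.castLE (by omega : 4 ≤ n) (Fin.castLE (by norm_num : 3 ≤ 4) k') from
    Fin.ext rfl, four_apply, hk']

theorem V_congr {g g' : alternatingGroup (Fin n)}
    (h : ∀ k, pts (by omega : 3 ≤ n) g k = pts (by omega : 3 ≤ n) g' k) (x : Cfsg.SU 3 F q) :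
    S.H g (by norm_num : 3 ≤ 4) x = S.H g' (by norm_num : 3 ≤ 4) x :=
  S.eq_of_π (S.H_le_W g _ ⟨x, rfl⟩) (V_le_W T (fun k => ⟨⟨k, by omega⟩, (h k).symm⟩) ⟨x, rfl⟩)
    (by rw [π_H, π_H]; exact embS_congr hF h _ _ x)

end

section

variable {S} (T : S.Three)
include T

theorem UP_all {g g' : alternatingGroup (Fin n)}
    (h : ∀ (k : Fin 2) (l : Fin 3), pts (by omega : 2 ≤ n) g k ≠ pts (by omega : 3 ≤ n) g' l) (x : Cfsg.SU 2 F q)
    (y : Cfsg.SU 3 F q) : Commute (S.H g (by norm_num : 2 ≤ 4) x) (S.H g' (by norm_num : 3 ≤ 4) y) := by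
  have := T.UP (g'⁻¹ * g) (fun k => not_lt.1 fun hlt => h k ⟨_, hlt⟩ (by
    show _ = (g' : Perm (Fin n)) ((g' : Perm (Fin n))⁻¹ _)
    rw [Perm.inv_def, Equiv.apply_symm_apply]; rfl)) x y
  have h2 := this.map (MulAut.conj (S.a g')).toMonoidHom
  simpa only [MulEquiv.coe_toMonoidHom, MulAut.conj_apply, conj_H, mul_one, mul_inv_cancel_left] using h2

theorem PP_all {g g' : alternatingGroup (Fin n)}
    (h : ∀ (k l : Fin 3), pts (by omega : 3 ≤ n) g k ≠ pts (by omega : 3 ≤ n) g' l) (x y : Cfsg.SU 3 F q) :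
    Commute (S.H g (by norm_num : 3 ≤ 4) x) (S.H g' (by norm_num : 3 ≤ 4) y) := by
  have := T.PP (g'⁻¹ * g) (fun k => not_lt.1 fun hlt => h k ⟨_, hlt⟩ (by
    show _ = (g' : Perm (Fin n)) ((g' : Perm (Fin n))⁻¹ _)
    rw [Perm.inv_def, Equiv.apply_symm_apply]; rfl)) x y
  have h2 := this.map (MulAut.conj (S.a g')).toMonoidHom
  simpa only [MulEquiv.coe_toMonoidHom, MulAut.conj_apply, conj_H, mul_one, mul_inv_cancel_left] using h2

/-- The map to `SU_n` is an isomorphism. -/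
theorem π_bijective : Function.Bijective S.π := by
  classical
  have hc' : ∀ i, ∃ g : alternatingGroup (Fin n), ∀ h : i + 3 ≤ n, ∀ k, pts (by omega : 3 ≤ n) g k = off i h k := fun i => by
    by_cases h : i + 3 ≤ n
    · obtain ⟨g, hg⟩ := exists_even_free (k := 3) (by omega : 3 + 2 ≤ n) (off_injective (N := n) i h)
      exact ⟨g, fun _ k => hg k (by omega)⟩
    · exact ⟨1, fun h' => absurd h' h⟩
  choose c hc using hc'
  have hd' : ∀ i, ∃ g : alternatingGroup (Fin n), ∀ h : i + 2 ≤ n, ∀ k, pts (by omega : 2 ≤ n) g k = off i h k := fun i => by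
    by_cases h : i + 2 ≤ n
    · obtain ⟨g, hg⟩ := exists_even_free (k := 2) (by omega : 2 + 2 ≤ n) (off_injective (N := n) i h)
      exact ⟨g, fun _ k => hg k (by omega)⟩
    · exact ⟨1, fun h' => absurd h' h⟩
  choose d hd using hd'
  set P : ℕ → (Cfsg.SU 3 F q →* G) := fun i => S.H (c i) (by norm_num : 3 ≤ 4) with hP
  set U : ℕ → Subgroup G := fun i => (S.H (d i) (by norm_num : 2 ≤ 4)).range with hU
  have r01 : ∀ i, i + 3 ≤ n → ∀ x, P i (e01 hF x) = S.H (d i) (by norm_num : 2 ≤ 4) x := fun i hi x => by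
    rw [hP, H_e01]
    refine S.R_congr (fun k => ?_) x
    have h1 := hc i hi ⟨k, by omega⟩
    rw [hd i (by omega)]
    exact h1.trans (Fin.ext rfl)
  have r12 : ∀ i, i + 3 ≤ n → ∀ x, P i (e12 hF x) = S.H (d (i + 1)) (by norm_num : 2 ≤ 4) x := fun i hi x => by
    refine S.H_e12 (fun k => ?_) x
    rw [hd (i + 1) (by omega), hc i hi]
    exact Fin.ext (by simp [off]; omega)
  have hC : Chain hF n U P :=
    { r01 := fun i hi x => ⟨x, (r01 i hi x).symm⟩
      r12 := fun i hi x => ⟨x, (r12 i hi x).symm⟩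
      compat := fun i hi x => by rw [r01 (i + 1) (by omega), r12 i (by omega)]
      comm := fun i j hij hj a ha b hb => by
        obtain ⟨x, rfl⟩ := ha
        obtain ⟨y, rfl⟩ := hb
        exact S.R_comm (fun k l e => by
          rw [hd i (by omega), hd j hj] at e
          have := congrArg Fin.val e
          simp [off] at this; omega) x y }
  have hfar : Far n U P :=
    { UP := fun i j hj hi hd' y hy x => by
        obtain ⟨z, rfl⟩ := hy
        exact UP_all T (fun k l e => by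
          rw [hd i hi, hc j hj] at e
          have := congrArg Fin.val e
          simp [off] at this; omega) z x
      PP := fun i j hj hij w x => PP_all T (fun k l e => by
          rw [hc i (by omega), hc j hj] at e
          have := congrArg Fin.val e
          simp [off] at this; omega) w x }
  have hW : ∀ (ρ : alternatingGroup (Fin n)) (i : ℕ) (hi : i + 3 ≤ n),
      (∀ k : Fin 3, ∃ l : Fin 4, off i hi k = pts (by omega : 4 ≤ n) ρ l) →
      ∀ (f : Fin 3 → Fin 4) (hf : Function.Injective f), (∀ k, pts (by omega : 4 ≤ n) ρ (f k) = off i hi k) →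
      ∀ x, S.a ρ * S.ι (embS hF hf x) * (S.a ρ)⁻¹ = P i x := by
    intro ρ i hi hl f hf hfk x
    refine S.eq_of_π (g := ρ) ⟨_, rfl⟩ (V_le_W T.N3 (fun k => ?_) ⟨x, rfl⟩) ?_
    · obtain ⟨l, hl⟩ := hl k
      exact ⟨l, (hc i hi k).trans hl⟩
    · rw [hP, π_H, map_mul, map_mul, map_inv, S.hπa, S.hπι, embS_comp, pm_conj_embS]
      exact embS_congr hF (fun k => (hfk k).trans (hc i hi k).symm) _ _ x
  have hbase : ∀ a, a + 4 ≤ n → ∃ Φ, IsExt hF n P a 4 Φ := fun a ha => by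
    obtain ⟨ρ, hρ⟩ := exists_shift hn ha
    have hρ' : ∀ l : Fin 4, (pts (by omega : 4 ≤ n) ρ l : ℕ) = a + l := fun l => hρ l l.2
    refine isExt_four hF ha ((MulAut.conj (S.a ρ)).toMonoidHom.comp S.ι) (fun x => ?_) (fun x => ?_)
    · exact hW ρ a (by omega) (fun k => ⟨k.castSucc, Fin.ext (by rw [hρ']; simp [off])⟩) _
        (Fin.castSucc_injective 3) (fun k => Fin.ext (by rw [hρ']; simp [off])) x
    · exact hW ρ (a + 1) (by omega) (fun k => ⟨k.succ, Fin.ext (by rw [hρ']; simp [off]; omega)⟩) _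
        (Fin.succ_injective 3) (fun k => Fin.ext (by rw [hρ']; simp [off]; omega)) x
  obtain ⟨f, hf⟩ := exists_hom_small hF (by omega : 4 ≤ n) hC hfar hbase
  -- surjectivity
  have hsurj : Function.Surjective f := by
    rw [← MonoidHom.range_eq_top, eq_top_iff, ← S.gen]
    refine sup_le ?_ ?_
    · rintro _ ⟨g, rfl⟩
      have hmap := alt_le (by omega : 3 ≤ n) ((f.range.comap S.a).map (alternatingGroup (Fin n)).subtype) fun i hi => by
        have h01 : (⟨0, by omega⟩ : Fin n) ≠ ⟨1, by omega⟩ := by simp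
        have h12 : (⟨1, by omega⟩ : Fin n) ≠ ⟨2, by omega⟩ := by simp
        set k0 : alternatingGroup (Fin n) := ⟨c3 ⟨0, by omega⟩ ⟨1, by omega⟩ ⟨2, by omega⟩, sign_c3 h01 h12⟩
        have hk0 : ∀ x : Fin n, 3 ≤ (x : ℕ) → (k0 : Perm (Fin n)) x = x := fun x hx =>
          c3_apply_other (by simp [Fin.ext_iff]; omega) (by simp [Fin.ext_iff]; omega) (by simp [Fin.ext_iff]; omega)
        refine ⟨c i * k0 * (c i)⁻¹, ?_, ?_⟩
        · refine hf i (by omega) ?_
          obtain ⟨z, hz⟩ := S.a_mem_V hk0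
          refine ⟨z, ?_⟩
          rw [hP, map_mul, map_mul, map_inv, ← hz, S.conj_H, mul_one]
        · show ((c i : alternatingGroup (Fin n)) : Perm (Fin n)) * c3 _ _ _ * ((c i : alternatingGroup (Fin n)) : Perm (Fin n))⁻¹ = _
          rw [c3_conj]
          have h0 := hc i (by omega) 0
          have h1 := hc i (by omega) 1
          have h2 := hc i (by omega) 2
          exact congr (congr (congrArg c3 (h0.trans (Fin.ext rfl))) (h1.trans (Fin.ext rfl))) (h2.trans (Fin.ext rfl))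
      obtain ⟨g', hg', e⟩ := hmap g.2
      obtain rfl : g' = g := Subtype.ext e
      exact hg'
    · rintro _ ⟨x, rfl⟩
      let ι' : SUH (Forms.hermB hF 4) →* G := S.ι.comp (suEquiv hF (n := 4)).symm.toMonoidHom
      have htop : f.range.comap ι' = ⊤ := blocks_gen (hF := hF) (N := 4) (by norm_num) _ fun i hi x => by
        refine hf i (by omega) ⟨x, ?_⟩
        show P i x = S.ι ((suEquiv hF (n := 4)).symm (embAt hF 4 3 i x))
        rw [embAt, dif_pos hi, show (suEquiv hF (n := 4)).symm (embH hF (off_injective i hi) x) = embS hF (off_injective i hi) x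
          from MulEquiv.symm_apply_eq _ |>.2 rfl]
        have := hW 1 i (by omega) (fun k => ⟨off i hi k, Fin.ext rfl⟩) _ (off_injective i hi) (fun k => Fin.ext rfl) x
        simpa using this.symm
      have hx : suEquiv hF x ∈ f.range.comap ι' := htop ▸ Subgroup.mem_top _
      simpa [ι'] using hx
  have hπsurj : Function.Surjective S.π := by
    have htop : S.π.range.map (suEquiv hF (n := n)).toMonoidHom = ⊤ := blocks_gen (hF := hF) (N := n) (by omega) _ fun i hi x => by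
      refine ⟨S.π (P i x), ⟨_, rfl⟩, ?_⟩
      rw [hP, π_H, embAt, dif_pos hi]
      exact congrArg (suEquiv hF) (embS_congr hF (hc i hi) _ (off_injective i hi) x)
    intro y
    obtain ⟨_, ⟨z, rfl⟩, e⟩ := (htop ▸ Subgroup.mem_top (suEquiv hF y) : suEquiv hF y ∈ S.π.range.map _)
    exact ⟨z, (suEquiv hF (n := n)).injective e⟩
  have hinj : Function.Injective (S.π ∘ f) := Finite.injective_iff_surjective.2 (hπsurj.comp hsurj)
  exact ⟨hinj.of_comp_right hsurj, hπsurj⟩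

end

end Sys

end Cfsg.Agent.SUnPresentation
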