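/-
Area SUnPresentation: the conditions on the three-dimensional blocks over the field with four elements.
-/
import Cfsg.Agent.Lib.SUnPresentation.Sys
import Cfsg.Agent.Lib.PhanAmalgam.Two

set_option autoImplicit false

open scoped Matrix

namespace Cfsg.Agent.SUnPresentation

open Equiv Cfsg.Agent.ClassicalSimple Cfsg.Agent.PhanAmalgam Cfsg.Agent.BoundedPres

variable {F : Type*} [Field F] [Fintype F] (hF : Fintype.card F = 2 ^ 2)

/-- An element of `SU₃(2)` outside the monomial subgroup. -/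
def IsA (μ : F) (A : Cfsg.SU 3 F 2) : Prop := A.1.1 = !![1, 1, 1; 1, μ, μ ^ 2; 1, μ ^ 2, μ]

include hF in
theorem twist_cond {μ : F} (hμ : μ ^ 3 = 1) :
    ∀ i, Forms.qEnd hF (![μ, 1, 1] i) * ![μ, 1, 1] i = 1 := by
  have hμ0 : μ ≠ 0 := fun e => by simp [e] at hμ
  intro i
  refine (norm_one_iff_two hF _).2 ?_
  fin_cases i <;> simp [hμ0]

/-- Its conjugate by a diagonal matrix. -/
noncomputable def yMat {μ : F} (hμ : μ ^ 3 = 1) (A : Cfsg.SU 3 F 2) : Cfsg.SU 3 F 2 :=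
  twist hF (twist_cond hF hμ) (RingEquiv.refl F) A

variable {μ : F} (hμ : μ ^ 3 = 1) (hμ1 : μ ≠ 1) {A : Cfsg.SU 3 F 2} (hA : IsA μ A)

include hμ1 hA in
theorem top_of_two {K : Subgroup (Cfsg.SU 3 F 2)} (hb : (e01 hF).range ⊔ (e12 hF).range ≤ K) (h1 : A ∈ K)
    (h2 : yMat hF hμ A ∈ K) : K = ⊤ := by
  have hμ0 : μ ≠ 0 := fun e => by simp [e] at hμ
  have hS := root_sum hμ hμ1
  have h22 := two_eq_zero hF
  have hA' : A.1.1 = !![1, 1, 1; 1, μ, μ ^ 2; 1, μ ^ 2, μ] := hA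
  refine top_of_reach hF hb fun l hl => ?_
  have hc := cube_of_ne_zero hF hl
  have h : (l - 1) * ((l - μ) * (l - μ ^ 2)) = 0 := by linear_combination hc + (l * μ - l * l) * hS - hμ
  rcases mul_eq_zero.1 h with h | h
  · refine ⟨A, h1, ?_⟩
    rw [sub_eq_zero.1 h]
    simp [hA', hμ0]
    linear_combination hμ
  rcases mul_eq_zero.1 h with h | h
  · refine ⟨_, h2, ?_⟩
    rw [sub_eq_zero.1 h]
    simp only [yMat, twist_apply]
    simp [hA', hμ0]
    linear_combination hμ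
  · refine ⟨A * yMat hF hμ A, mul_mem h1 h2, ?_⟩
    rw [sub_eq_zero.1 h]
    have e : ∀ i, (A * yMat hF hμ A).1.1 i 2 = ![μ ^ 2, μ, μ ^ 2] i := by
      intro i
      rw [Subgroup.coe_mul, Matrix.SpecialLinearGroup.coe_mul, Matrix.mul_apply, Fin.sum_univ_three]
      simp only [yMat, twist_apply]
      fin_cases i <;> simp [hA']
      · linear_combination μ * h22
      · linear_combination μ ^ 3 * h22
      · linear_combination μ * hμ + μ * h22
    rw [e, e, e]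
    simp [hμ0]
    linear_combination hμ

include hA in
theorem A_comm_wswap : A * e12 hF (wswap hF) = e12 hF (wswap hF) * A := by
  have hA' : A.1.1 = !![1, 1, 1; 1, μ, μ ^ 2; 1, μ ^ 2, μ] := hA
  have hw : ∀ i j, (e12 hF (wswap hF (q := 2))).1.1 i j = (!![1, 0, 0; 0, 0, 1; 0, 1, 0] : Matrix (Fin 3) (Fin 3) F) i j := by
    intro i j
    rw [e12, embS_val]
    refine (congrFun (mulVec_single_one (embMat (Fin.succ_injective 2) _) j) i).symm.trans ?_
    by_cases hi : i = 0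
    · subst hi
      rw [embMat_out _ _ _ not_range_12]
      fin_cases j <;> simp [Pi.single_apply]
    · obtain ⟨k, rfl⟩ := Fin.exists_succ_eq_of_ne_zero hi
      rw [embMat_in]
      fin_cases k <;> fin_cases j <;>
        simp [wswap, mk2, Matrix.mulVec, dotProduct, Fin.sum_univ_two, Pi.single_apply, neg_eq_self hF]
  refine Subtype.ext (Subtype.ext (Matrix.ext fun i j => ?_))
  simp only [Subgroup.coe_mul, Matrix.SpecialLinearGroup.coe_mul, Matrix.mul_apply, Fin.sum_univ_three, hw, hA']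
  fin_cases i <;> fin_cases j <;> simp

section Diag

variable {N : ℕ}

/-- Conjugation by a diagonal element is a twist. -/
theorem conj_diag {q : ℕ} (hF : Fintype.card F = q ^ 2) {c : Fin N → F}
    (hc : ∀ i, Forms.qEnd hF (c i) * c i = 1) {D : Cfsg.SU N F q}
    (hD : ∀ j, suEquiv hF D • (E j : Fin N → F) = c j • E j) (x : Cfsg.SU N F q) :
    D * x * D⁻¹ = twist hF hc (RingEquiv.refl F) x := by
  have hM : D.1.1 = Matrix.diagonal c := by
    ext i j
    have e := congrFun (hD j) i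
    rw [suEquiv_smul, mulVec_single_one, Pi.smul_apply, E_apply] at e
    change D.1.1 i j = _ at e
    refine e.trans ?_
    rw [Matrix.diagonal_apply]
    by_cases hij : i = j <;> simp [hij]
  rw [mul_inv_eq_iff_eq_mul]
  refine Subtype.ext (Subtype.ext (Matrix.ext fun i j => ?_))
  simp only [Subgroup.coe_mul, Matrix.SpecialLinearGroup.coe_mul, hM, Matrix.diagonal_mul, Matrix.mul_diagonal,
    twist_apply, RingEquiv.refl_apply]
  rw [mul_assoc, inv_mul_cancel₀ (twist_ne hF hc j), mul_one]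

include hμ in
theorem tor_E {f : Fin 2 → Fin N} (hf : Function.Injective f) (j : Fin N) :
    suEquiv hF (embS hF hf (tor hF μ hμ)) • (E j : Fin N → F) =
      (if j = f 0 then μ else if j = f 1 then μ ^ 2 else 1) • E j := by
  by_cases hj : j ∈ Set.range f
  · obtain ⟨k, rfl⟩ := hj
    funext i
    by_cases hi : i ∈ Set.range f
    · obtain ⟨l, rfl⟩ := hi
      refine (embH_in hF hf _ _ l).trans ?_
      fin_cases k <;> fin_cases l <;>
        simp [tor, mk2, Matrix.mulVec, dotProduct, Fin.sum_univ_two, hf.eq_iff, E_apply, Forms.qEnd_apply]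
    · refine (embH_out hF hf _ _ hi).trans ?_
      have : i ≠ f k := fun e => hi ⟨k, e.symm⟩
      simp [E_apply, this]
  · rw [if_neg fun e => hj ⟨0, e.symm⟩, if_neg fun e => hj ⟨1, e.symm⟩, one_smul]
    exact embH_fix hF hf _ hj

theorem wswap_E {f : Fin 2 → Fin N} (hf : Function.Injective f) (j : Fin N) :
    suEquiv hF (embS hF hf (wswap hF (q := 2))) • (E j : Fin N → F) =
      E (if j = f 0 then f 1 else if j = f 1 then f 0 else j) := by
  by_cases hj : j ∈ Set.range f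
  · obtain ⟨k, rfl⟩ := hj
    funext i
    by_cases hi : i ∈ Set.range f
    · obtain ⟨l, rfl⟩ := hi
      refine (embH_in hF hf _ _ l).trans ?_
      fin_cases k <;> fin_cases l <;>
        simp [wswap, mk2, Matrix.mulVec, dotProduct, Fin.sum_univ_two, hf.eq_iff, E_apply, neg_eq_self hF]
    · refine (embH_out hF hf _ _ hi).trans ?_
      have : ∀ l, i ≠ f l := fun l e => hi ⟨l, e.symm⟩
      fin_cases k <;> simp [E_apply, this, hf.eq_iff]
  · rw [if_neg fun e => hj ⟨0, e.symm⟩, if_neg fun e => hj ⟨1, e.symm⟩]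
    exact embH_fix hF hf _ hj

end Diag

variable {n : ℕ} {hn : 5 ≤ n} {G : Type*} [Group G] (S : Sys hF n hn G)

/-- The extra conditions. -/
structure RelTwo (μ : F) (hμ : μ ^ 3 = 1) (A : Cfsg.SU 3 F 2) : Prop where
  inv : ∀ k : alternatingGroup (Fin n), (k : Perm (Fin n)) ⟨0, by omega⟩ = ⟨0, by omega⟩ → Stab 3 (k : Perm (Fin n)) →
    Commute (S.a k) (S.H 1 (by norm_num : 3 ≤ 4) A)
  tor : ∃ g : alternatingGroup (Fin n), (∀ k : Fin 2, (pts (by omega : 2 ≤ n) g k : ℕ) = k + 3) ∧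
    Commute (S.H g (by norm_num : 2 ≤ 4) (tor hF μ hμ)) (S.H 1 (by norm_num : 3 ≤ 4) A)
  far : 6 ≤ n → ∃ τ : alternatingGroup (Fin n), (∀ k : Fin 3, (pts (by omega : 3 ≤ n) τ k : ℕ) = k + 3) ∧
    Commute (S.H τ (by norm_num : 3 ≤ 4) A) (S.H 1 (by norm_num : 3 ≤ 4) A) ∧
    Commute (S.H τ (by norm_num : 3 ≤ 4) (yMat hF hμ A)) (S.H 1 (by norm_num : 3 ≤ 4) A)

variable {hF}
variable {S}

theorem inj_two {a b : Fin n} (h : a ≠ b) : Function.Injective ![a, b] := fun i j e => by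
  fin_cases i <;> fin_cases j <;> simp [h, Ne.symm h] at e ⊢

theorem inj_three {a b c : Fin n} (hab : a ≠ b) (hac : a ≠ c) (hbc : b ≠ c) : Function.Injective ![a, b, c] :=
  fun i j e => by
  fin_cases i <;> fin_cases j <;> simp [hab, hac, hbc, Ne.symm hab, Ne.symm hac, Ne.symm hbc] at e ⊢

/-- Two blocks through the same three points. -/
theorem top_mem (S : Sys hF n hn G) (hμ1 : μ ≠ 1) (hA : IsA μ A) {g : alternatingGroup (Fin n)} (K : Subgroup G)
    (hR : ∀ (g' : alternatingGroup (Fin n)) (s : Fin 2 → Fin 3),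
      (∀ i, pts (by omega : 2 ≤ n) g' i = pts (by omega : 3 ≤ n) g (s i)) → ∀ w, S.H g' (by norm_num : 2 ≤ 4) w ∈ K)
    (hAK : S.H g (by norm_num : 3 ≤ 4) A ∈ K) (hYK : S.H g (by norm_num : 3 ≤ 4) (yMat hF hμ A) ∈ K)
    (x : Cfsg.SU 3 F 2) : S.H g (by norm_num : 3 ≤ 4) x ∈ K := by
  obtain ⟨g', hg'⟩ := exists_even_free (n := n) (k := 2) (by omega)
    (f := fun i => pts (by omega : 3 ≤ n) g i.succ) fun i j e => Fin.succ_injective _ (pts_injective _ g e)
  have hg'' : ∀ i : Fin 2, pts (by omega : 2 ≤ n) g' i = pts (by omega : 3 ≤ n) g i.succ := fun i => hg' i (by omega)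
  have : K.comap (S.H g (by norm_num : 3 ≤ 4)) = ⊤ := by
    refine top_of_two hF hμ hμ1 hA (sup_le ?_ ?_) hAK hYK
    · rintro _ ⟨w, rfl⟩
      rw [Subgroup.mem_comap, S.H_e01]; exact hR g Fin.castSucc (fun i => rfl) w
    · rintro _ ⟨w, rfl⟩
      rw [Subgroup.mem_comap, S.H_e12 hg'']; exact hR g' Fin.succ hg'' w
  exact (this ▸ Subgroup.mem_top x : x ∈ K.comap _)

theorem mem_centralizer_of {a b : G} (h : Commute a b) : b ∈ Subgroup.centralizer {a} :=
  Subgroup.mem_centralizer_iff.2 fun _ hz => by rw [Set.mem_singleton_iff.1 hz]; exact h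

theorem of_mem_centralizer {a b : G} (h : b ∈ Subgroup.centralizer {a}) : Commute a b :=
  Subgroup.mem_centralizer_iff.1 h a rfl

/-- The exchange `(1 2)(3 4)`. -/
theorem exists_k (hn : 5 ≤ n) : ∃ k : alternatingGroup (Fin n), ∀ x : Fin n, (((k : Perm (Fin n)) x : Fin n) : ℕ) =
    if (x : ℕ) = 1 then (2 : ℕ) else if (x : ℕ) = 2 then 1 else if (x : ℕ) = 3 then 4 else if (x : ℕ) = 4 then 3 else (x : ℕ) := by
  have h12 : (⟨1, by omega⟩ : Fin n) ≠ ⟨2, by omega⟩ := by simp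
  have h34 : (⟨3, by omega⟩ : Fin n) ≠ ⟨4, by omega⟩ := by simp
  refine ⟨⟨swap ⟨1, by omega⟩ ⟨2, by omega⟩ * swap ⟨3, by omega⟩ ⟨4, by omega⟩, by
    rw [Perm.mem_alternatingGroup, map_mul, Perm.sign_swap h12, Perm.sign_swap h34]; rfl⟩, fun x => ?_⟩
  show ((swap _ _ (swap _ _ x) : Fin n) : ℕ) = _
  simp only [swap_apply_def, Fin.ext_iff]
  split_ifs <;> simp_all

namespace RelTwo

theorem conj_e (R : RelTwo hF S μ hμ A) (k : alternatingGroup (Fin n))
    (h0 : (k : Perm (Fin n)) ⟨0, by omega⟩ = ⟨0, by omega⟩) (h3 : Stab 3 (k : Perm (Fin n))) :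
    S.H k (by norm_num : 3 ≤ 4) A = S.H 1 (by norm_num : 3 ≤ 4) A := by
  have := (R.inv k h0 h3).eq
  rw [← mul_inv_eq_iff_eq_mul.2 this, S.conj_H, mul_one]

include hμ1 hA in
theorem base_pair (R : RelTwo hF S μ hμ A) : ∃ g : alternatingGroup (Fin n),
    (∀ k : Fin 2, (pts (by omega : 2 ≤ n) g k : ℕ) = k + 3) ∧
      ∀ w, Commute (S.H g (by norm_num : 2 ≤ 4) w) (S.H 1 (by norm_num : 3 ≤ 4) A) := by
  obtain ⟨g34, hg34, htor⟩ := R.tor
  refine ⟨g34, hg34, fun w => ?_⟩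
  obtain ⟨ρ, hρ⟩ := exists_shift hn (a := 1) (by omega)
  have hρ' : ∀ l : Fin 4, (pts (by omega : 4 ≤ n) ρ l : ℕ) = 1 + l := fun l => hρ l l.2
  obtain ⟨k, hk⟩ := exists_k hn
  have hk0 : (k : Perm (Fin n)) ⟨0, by omega⟩ = ⟨0, by omega⟩ := Fin.ext (by rw [hk]; simp)
  have hk3 : Stab 3 (k : Perm (Fin n)) := fun x hx => by rw [hk]; split_ifs <;> omega
  have hkW : S.a k ∈ S.W ρ := by
    have h := S.a_mem_W ρ (h := ρ⁻¹ * k * ρ) fun x hx => by
      show (ρ : Perm (Fin n))⁻¹ ((k : Perm (Fin n)) ((ρ : Perm (Fin n)) x)) = x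
      rw [show (k : Perm (Fin n)) ((ρ : Perm (Fin n)) x) = (ρ : Perm (Fin n)) x from Fin.ext ?_, Perm.inv_def,
        Equiv.symm_apply_apply]
      rw [hk]
      have key : ∀ v : Fin 4, (((ρ : Perm (Fin n)) x : Fin n) : ℕ) ≠ 1 + v := fun v e => by
        have := congrArg Fin.val ((ρ : Perm (Fin n)).injective (Fin.ext (e.trans (hρ' v).symm)))
        simp at this; omega
      have := key 0; have := key 1; have := key 2; have := key 3
      simp at *
      split_ifs <;> omega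
    rwa [show ρ * (ρ⁻¹ * k * ρ) * ρ⁻¹ = k by group] at h
  obtain ⟨g12, hg12⟩ := exists_even_free (n := n) (k := 2) (by omega)
    (inj_two (a := ⟨1, by omega⟩) (b := ⟨2, by omega⟩) (by simp))
  have hp12 : ∀ i : Fin 2, (pts (by omega : 2 ≤ n) g12 i : ℕ) = i + 1 := fun i => by
    refine (congrArg Fin.val (hg12 i (by omega))).trans ?_
    fin_cases i <;> rfl
  have hw12 : Commute (S.H g12 (by norm_num : 2 ≤ 4) (wswap hF)) (S.H 1 (by norm_num : 3 ≤ 4) A) := by
    rw [← S.H_e12 (g := 1) (fun i => Fin.ext (by rw [hp12]; simp [pts]))]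
    exact Commute.map (show Commute (e12 hF (wswap hF)) A from (A_comm_wswap hF hA).symm) _
  have hw34 : S.H g34 (by norm_num : 2 ≤ 4) (wswap hF) = S.a k * S.H g12 (by norm_num : 2 ≤ 4) (wswap hF) := by
    refine S.eq_of_π (g := ρ) (S.R_le_W (fun i => ⟨⟨(i : ℕ) + 2, by omega⟩, Fin.ext ?_⟩) ⟨_, rfl⟩)
      (mul_mem hkW (S.R_le_W (fun i => ⟨⟨(i : ℕ), by omega⟩, Fin.ext ?_⟩) ⟨_, rfl⟩)) ?_
    · rw [hg34, hρ']; simp; omega
    · rw [hp12, hρ']; simp; omega
    · rw [map_mul, S.π_H, S.π_H, S.hπa]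
      refine eq_of_E hF fun j => ?_
      rw [map_mul, mul_smul, wswap_E, wswap_E, pm_E]
      refine congrArg E (Fin.ext ?_)
      simp only [apply_ite (fun x : Fin n => (x : ℕ)), hk, Fin.ext_iff, hg34, hp12, Fin.val_zero, Fin.val_one]
      split_ifs <;> omega
  have : (Subgroup.centralizer {S.H 1 (by norm_num : 3 ≤ 4) A}).comap (S.H g34 (by norm_num : 2 ≤ 4)) = ⊤ := by
    refine su2_top_of_gens hF hμ hμ1 ?_ ?_
    · exact mem_centralizer_of htor.symm
    · rw [Subgroup.mem_comap, hw34]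
      exact mem_centralizer_of ((R.inv k hk0 hk3).mul_left hw12).symm
  exact (of_mem_centralizer (this ▸ Subgroup.mem_top w : w ∈ (Subgroup.centralizer _).comap _)).symm

include hμ1 hA in
theorem pair_comm (R : RelTwo hF S μ hμ A) (g : alternatingGroup (Fin n))
    (hg : ∀ i : Fin 2, 3 ≤ (pts (by omega : 2 ≤ n) g i : ℕ)) (w : Cfsg.SU 2 F 2) :
    Commute (S.H g (by norm_num : 2 ≤ 4) w) (S.H 1 (by norm_num : 3 ≤ 4) A) := by
  obtain ⟨g34, hg34, h34⟩ := R.base_pair hμ hμ1 hA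
  obtain ⟨j, hj, hj'⟩ := exists_even_swap (n := n) (k := 5) hn
    (f := ![⟨0, by omega⟩, ⟨1, by omega⟩, ⟨2, by omega⟩, pts (by omega : 2 ≤ n) g 0, pts (by omega : 2 ≤ n) g 1])
    (fun a b e => by
      have := hg 0; have := hg 1
      have hne : (pts (by omega : 2 ≤ n) g 0 : ℕ) ≠ pts (by omega : 2 ≤ n) g 1 :=
        fun e => absurd (pts_injective (by omega : 2 ≤ n) g (Fin.ext e)) (by decide)
      fin_cases a <;> fin_cases b <;> simp [Fin.ext_iff] at e ⊢ <;> omega)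
    (p := 1) (r := 2) (by decide)
  have hj0 : (j : Perm (Fin n)) ⟨0, by omega⟩ = ⟨0, by omega⟩ := hj 0 (by simp; omega) (by decide) (by decide)
  have hj3 : Stab 3 (j : Perm (Fin n)) := fun x hx => by
    rcases (by omega : (x : ℕ) = 0 ∨ (x : ℕ) = 1 ∨ (x : ℕ) = 2) with h | h | h
    · rw [show x = ⟨0, by omega⟩ from Fin.ext h, hj0]; simp
    · rw [show x = Fin.castLE hn 1 from Fin.ext h]
      rcases hj' with ⟨e1, -⟩ | ⟨e1, -⟩ <;> rw [e1] <;> simp
    · rw [show x = Fin.castLE hn 2 from Fin.ext h]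
      rcases hj' with ⟨-, e1⟩ | ⟨-, e1⟩ <;> rw [e1] <;> simp
  rw [S.R_congr (g' := j * g34) (fun i => ?_) w, ← R.conj_e hμ j hj0 hj3, ← S.conj_H, ← mul_one j, ← S.conj_H j 1,
    mul_one]
  · exact (h34 w).map (MulAut.conj (S.a j)).toMonoidHom
  · show _ = (j : Perm (Fin n)) (pts (by omega : 2 ≤ n) g34 i)
    rw [show pts (by omega : 2 ≤ n) g34 i = ⟨(i : ℕ) + 3, by omega⟩ from Fin.ext (hg34 i)]
    fin_cases i
    · exact (hj 3 (by simp; omega) (by decide) (by decide)).symm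
    · exact (hj 4 (by simp; omega) (by decide) (by decide)).symm

section Diagonal

variable {g03 : alternatingGroup (Fin n)} (hp03 : ∀ i : Fin 2, (pts (by omega : 2 ≤ n) g03 i : ℕ) = ![0, 3] i)
include hp03

include hμ in
/-- Conjugation by the diagonal element moves a block to itself. -/
theorem normal (g ρ : alternatingGroup (Fin n)) {m : ℕ} (hm : m ≤ 4)
    (hXW : S.H g03 (by norm_num : 2 ≤ 4) (PhanAmalgam.tor hF μ hμ) ∈ S.W ρ) (hgW : (S.H g hm).range ≤ S.W ρ) :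
    ∃ t : Cfsg.SU m F 2 → Cfsg.SU m F 2, Function.Surjective t ∧
      (∀ (hm3 : m = 3) (hc : ∀ i, Forms.qEnd hF (![μ, 1, 1] (Fin.cast hm3 i)) * ![μ, 1, 1] (Fin.cast hm3 i) = 1),
        (∀ i : Fin m, (pts (by omega : m ≤ n) g i : ℕ) = i) → ∀ x,
        t x = twist hF (c := fun i => ![μ, 1, 1] (Fin.cast hm3 i)) hc (RingEquiv.refl F) x) ∧
      ∀ x, S.H g03 (by norm_num : 2 ≤ 4) (PhanAmalgam.tor hF μ hμ) * S.H g hm x *
        (S.H g03 (by norm_num : 2 ≤ 4) (PhanAmalgam.tor hF μ hμ))⁻¹ = S.H g hm (t x) := by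
  set X := S.H g03 (by norm_num : 2 ≤ 4) (PhanAmalgam.tor hF μ hμ) with hX
  let c : Fin n → F := fun j =>
    if j = pts (by omega : 2 ≤ n) g03 0 then μ else if j = pts (by omega : 2 ≤ n) g03 1 then μ ^ 2 else 1
  have hμ0 : μ ≠ 0 := fun e => by simp [e] at hμ
  have hc : ∀ i, Forms.qEnd hF (c i) * c i = 1 := fun i => by
    refine (norm_one_iff_two hF _).2 ?_
    simp only [c]; split_ifs <;> simp [hμ0]
  refine ⟨twist hF (c := c ∘ pts (by omega : m ≤ n) g) (fun i => hc _) (RingEquiv.refl F), (twist_bijective hF _ _).2,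
    fun hm3 hc' hg x => ?_, fun x => ?_⟩
  · refine twist_congr hF _ _ (funext fun i => ?_) _ x
    subst hm3
    simp only [c, Function.comp_apply, Fin.ext_iff, hg, hp03]
    fin_cases i <;> simp
  · refine S.eq_of_π (mul_mem (mul_mem hXW (hgW ⟨x, rfl⟩)) (inv_mem hXW)) (hgW ⟨_, rfl⟩) ?_
    rw [map_mul, map_mul, map_inv, S.π_H g hm, S.π_H g hm,
      conj_diag hF hc (fun j => by rw [hX, S.π_H]; exact tor_E hF hμ _ j)]
    exact twist_embS hF _ hc _ x

theorem yMat_eq : S.H 1 (by norm_num : 3 ≤ 4) (yMat hF hμ A) =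
    S.H g03 (by norm_num : 2 ≤ 4) (PhanAmalgam.tor hF μ hμ) * S.H 1 (by norm_num : 3 ≤ 4) A *
      (S.H g03 (by norm_num : 2 ≤ 4) (PhanAmalgam.tor hF μ hμ))⁻¹ := by
  obtain ⟨t, -, ht, he⟩ := normal (S := S) hμ hp03 1 1 (by norm_num : 3 ≤ 4)
    (S.R_le_W (fun i => ⟨![0, 3] i, Fin.ext (by rw [hp03]; fin_cases i <;> rfl)⟩) ⟨_, rfl⟩) (S.H_le_W _ _)
  rw [he, ht rfl (twist_cond hF hμ) (fun i => rfl)]
  rfl

include hμ1 hA in
theorem pair_block (R : RelTwo hF S μ hμ A) (g : alternatingGroup (Fin n))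
    (hg : ∀ i : Fin 2, 3 ≤ (pts (by omega : 2 ≤ n) g i : ℕ)) (x : Cfsg.SU 2 F 2) (y : Cfsg.SU 3 F 2) :
    Commute (S.H g (by norm_num : 2 ≤ 4) x) (S.H 1 (by norm_num : 3 ≤ 4) y) := by
  set X := S.H g03 (by norm_num : 2 ≤ 4) (PhanAmalgam.tor hF μ hμ)
  have hYx : Commute (S.H g (by norm_num : 2 ≤ 4) x) (X * S.H 1 (by norm_num : 3 ≤ 4) A * X⁻¹) := by
    by_cases h3 : ∃ i : Fin 2, (pts (by omega : 2 ≤ n) g i : ℕ) = 3
    · have := hg 0; have := hg 1
      have hne : pts (by omega : 2 ≤ n) g 0 ≠ pts (by omega : 2 ≤ n) g 1 :=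
        fun e => absurd (pts_injective (by omega : 2 ≤ n) g e) (by decide)
      obtain ⟨σ, hσ⟩ := exists_even_free (n := n) (k := 3) (by omega)
        (inj_three (a := ⟨0, by omega⟩) (b := pts (by omega : 2 ≤ n) g 0) (c := pts (by omega : 2 ≤ n) g 1)
          (by simp [Fin.ext_iff]; omega) (by simp [Fin.ext_iff]; omega) hne)
      have h0 : pts (by omega : 4 ≤ n) σ 0 = _ := hσ 0 (by simp; omega)
      have h1 : pts (by omega : 4 ≤ n) σ 1 = _ := hσ 1 (by simp; omega)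
      have h2 : pts (by omega : 4 ≤ n) σ 2 = _ := hσ 2 (by simp; omega)
      have hgW : (S.H g (by norm_num : 2 ≤ 4)).range ≤ S.W σ :=
        S.R_le_W fun i => by fin_cases i <;> [exact ⟨1, h1.symm⟩; exact ⟨2, h2.symm⟩]
      have hXW : X ∈ S.W σ := by
        refine S.R_le_W (fun i => ?_) ⟨_, rfl⟩
        fin_cases i
        · exact ⟨0, (Fin.ext (hp03 0)).trans h0.symm⟩
        · obtain ⟨i, hi⟩ := h3
          fin_cases i
          · exact ⟨1, (Fin.ext ((hp03 1).trans hi.symm)).trans h1.symm⟩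
          · exact ⟨2, (Fin.ext ((hp03 1).trans hi.symm)).trans h2.symm⟩
      obtain ⟨t, ht, -, hn'⟩ := normal hμ hp03 g σ (by norm_num : 2 ≤ 4) hXW hgW
      obtain ⟨x', rfl⟩ := ht x
      rw [← hn' x']
      exact (R.pair_comm hμ hμ1 hA g hg x').map (MulAut.conj X).toMonoidHom
    · push Not at h3
      have hxX : Commute (S.H g (by norm_num : 2 ≤ 4) x) X := S.R_comm (fun i l e => by
        have := hg i; have := h3 i
        have e' := (congrArg Fin.val e).trans (hp03 l)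
        fin_cases l <;> simp at e' <;> omega) x _
      exact (hxX.mul_right (R.pair_comm hμ hμ1 hA g hg x)).mul_right hxX.inv_right
  refine of_mem_centralizer (top_mem hμ S hμ1 hA (g := 1) _ (fun g' s hg' w => mem_centralizer_of
    (S.R_comm (fun i l e => ?_) x w)) (mem_centralizer_of (R.pair_comm hμ hμ1 hA g hg x))
    (mem_centralizer_of ?_) y)
  · have h1 := hg i
    rw [e, hg'] at h1
    simp [pts] at h1
    omega
  · rw [yMat_eq hμ hp03]; exact hYx

include hμ1 hA in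
theorem stab_block (R : RelTwo hF S μ hμ A) (k : alternatingGroup (Fin n))
    (h0 : (k : Perm (Fin n)) ⟨0, by omega⟩ = ⟨0, by omega⟩) (h3 : Stab 3 (k : Perm (Fin n))) (x : Cfsg.SU 3 F 2) :
    S.H k (by norm_num : 3 ≤ 4) x ∈ (S.H 1 (by norm_num : 3 ≤ 4)).range := by
  refine top_mem hμ S hμ1 hA _ (fun g' s hg' w => S.R_le_V (fun i => ?_) ⟨w, rfl⟩)
    ⟨A, (R.conj_e hμ k h0 h3).symm⟩ ⟨yMat hF hμ A, ?_⟩ x
  · rw [hg']; exact h3 _ (by simp <;> omega)
  symm
  set t := PhanAmalgam.tor hF μ hμ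
  set X := S.H g03 (by norm_num : 2 ≤ 4) t
  set p := (k : Perm (Fin n)) ⟨3, by omega⟩ with hp
  have hp3 : 3 ≤ (p : ℕ) := not_lt.1 fun hlt => by
    have := h3.inv p hlt
    rw [hp, Perm.inv_def, Equiv.symm_apply_apply] at this
    simp at this
  have hkp : ∀ i, pts (by omega : 2 ≤ n) (k * g03) i = ![⟨0, by omega⟩, p] i := fun i => by
    show (k : Perm (Fin n)) (pts (by omega : 2 ≤ n) g03 i) = _
    rw [show pts (by omega : 2 ≤ n) g03 i = ⟨![0, 3] i, by fin_cases i <;> simp <;> omega⟩ from Fin.ext (hp03 i)]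
    fin_cases i
    · exact h0
    · rfl
  calc S.H k (by norm_num : 3 ≤ 4) (yMat hF hμ A)
      = S.a k * S.H 1 (by norm_num : 3 ≤ 4) (yMat hF hμ A) * (S.a k)⁻¹ := by rw [S.conj_H, mul_one]
    _ = S.H (k * g03) (by norm_num : 2 ≤ 4) t * S.H 1 (by norm_num : 3 ≤ 4) A * (S.H (k * g03) (by norm_num : 2 ≤ 4) t)⁻¹ := by
        conv_rhs => rw [← R.conj_e hμ k h0 h3, ← mul_one k, ← S.conj_H k 1, mul_one, ← S.conj_H k g03]
        rw [yMat_eq hμ hp03]
        group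
        rfl
    _ = X * S.H 1 (by norm_num : 3 ≤ 4) A * X⁻¹ := ?_
    _ = _ := (yMat_eq hμ hp03).symm
  by_cases hp3' : (p : ℕ) = 3
  · rw [S.R_congr (g := k * g03) (g' := g03) (fun i => Fin.ext (by
      rw [hkp, hp03]; fin_cases i <;> simp [hp3']))]
  obtain ⟨g3p, hg3p⟩ := exists_even_free (n := n) (k := 2) (by omega)
    (inj_two (a := ⟨3, by omega⟩) (b := p) (by simp [Fin.ext_iff]; omega))
  obtain ⟨σ, hσ⟩ := exists_even_free (n := n) (k := 3) (by omega)
    (inj_three (a := ⟨0, by omega⟩) (b := ⟨3, by omega⟩) (c := p) (by simp [Fin.ext_iff]) (by simp [Fin.ext_iff]; omega)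
      (by simp [Fin.ext_iff]; omega))
  have hσ' : ∀ i : Fin 3, pts (by omega : 4 ≤ n) σ i.castSucc = ![⟨0, by omega⟩, ⟨3, by omega⟩, p] i := fun i => hσ i (by omega)
  have hq3p : ∀ i, pts (by omega : 2 ≤ n) g3p i = ![⟨3, by omega⟩, p] i := fun i => hg3p i (by omega)
  have hq03 : ∀ i, pts (by omega : 2 ≤ n) g03 i = ![⟨0, by omega⟩, ⟨3, by omega⟩] i := fun i => Fin.ext (by
    rw [hp03]; fin_cases i <;> rfl)
  have hU : S.H (k * g03) (by norm_num : 2 ≤ 4) t = X * S.H g3p (by norm_num : 2 ≤ 4) t := by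
    refine S.eq_of_π (g := σ) (S.R_le_W (fun i => ⟨(![0, 2] i : Fin 3).castSucc, ?_⟩) ⟨_, rfl⟩)
      (mul_mem (S.R_le_W (fun i => ⟨(![0, 1] i : Fin 3).castSucc, ?_⟩) ⟨_, rfl⟩)
        (S.R_le_W (fun i => ⟨(![1, 2] i : Fin 3).castSucc, ?_⟩) ⟨_, rfl⟩)) ?_
    · rw [hkp, hσ']; fin_cases i <;> rfl
    · rw [hq03, hσ']; fin_cases i <;> rfl
    · rw [hq3p, hσ']; fin_cases i <;> rfl
    rw [map_mul, S.π_H, S.π_H, S.π_H]
    refine eq_of_E hF fun j => ?_
    rw [map_mul, mul_smul, tor_E hF hμ, tor_E hF hμ, su_scal, tor_E hF hμ, smul_smul]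
    refine congrArg (· • _) ?_
    simp only [hkp, hq03, hq3p, Matrix.cons_val_zero, Matrix.cons_val_one, Fin.ext_iff]
    split_ifs <;> first | omega | linear_combination -hμ | ring
  have hUe := R.pair_block hμ hμ1 hA hp03 g3p (fun i => by rw [hq3p]; fin_cases i <;> simp <;> omega) t A
  rw [hU, _root_.mul_inv_rev, ← mul_assoc, mul_assoc X _ (S.H 1 _ A), hUe.eq, ← mul_assoc X, mul_inv_cancel_right]

include hμ1 hA in
theorem norm_three (R : RelTwo hF S μ hμ A) : S.NormThree := by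
  intro k hk
  obtain ⟨r, hr0, hr⟩ : ∃ r : alternatingGroup (Fin n),
      (r : Perm (Fin n)) ⟨0, by omega⟩ = (k : Perm (Fin n))⁻¹ ⟨0, by omega⟩ ∧
        ∀ x : Fin n, 3 ≤ (x : ℕ) → (r : Perm (Fin n)) x = x := by
    set p := (k : Perm (Fin n))⁻¹ ⟨0, by omega⟩
    have key : ∀ v : Fin 3, ∃ r : alternatingGroup (Fin 4), (r : Perm (Fin 4)) 0 = v.castSucc ∧ (r : Perm (Fin 4)) 3 = 3 := by
      decide
    obtain ⟨r, h0, h3⟩ := key ⟨p, hk.inv _ (by simp)⟩
    refine ⟨four (by omega : 4 ≤ n) r, ?_, fun x hx => ?_⟩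
    · rw [show (⟨0, by omega⟩ : Fin n) = Fin.castLE (by omega) (0 : Fin 4) from rfl, four_apply, h0]
      exact Fin.ext rfl
    · rcases eq_or_lt_of_le hx with hx3 | hx4
      · rw [show x = Fin.castLE (by omega) (3 : Fin 4) from Fin.ext hx3.symm, four_apply, h3]
      · exact four_out _ r hx4
  have h0' : ((k * r : alternatingGroup (Fin n)) : Perm (Fin n)) ⟨0, by omega⟩ = ⟨0, by omega⟩ := by
    show (k : Perm (Fin n)) ((r : Perm (Fin n)) _) = _
    rw [hr0, Perm.inv_def, Equiv.apply_symm_apply]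
  have h3' : Stab 3 ((k * r : alternatingGroup (Fin n)) : Perm (Fin n)) := fun x hx => by
    refine hk _ (not_le.1 fun h => ?_)
    have := (r : Perm (Fin n)).injective (hr _ h)
    omega
  rintro _ ⟨x, rfl⟩
  obtain ⟨z, hz⟩ := S.a_mem_V hr
  obtain ⟨w, hw⟩ := R.stab_block hμ hμ1 hA hp03 (k * r) h0' h3' (z⁻¹ * x * z)
  refine ⟨w, hw.trans ?_⟩
  rw [← mul_one (k * r), ← S.conj_H (k * r) 1, map_mul S.a, map_mul, map_mul, map_inv, hz]
  conv_rhs => rw [← mul_one k, ← S.conj_H k 1]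
  group

include hμ1 hA in
theorem block_block (R : RelTwo hF S μ hμ A) (g : alternatingGroup (Fin n))
    (hg : ∀ k : Fin 3, 3 ≤ (pts (by omega : 3 ≤ n) g k : ℕ)) (x y : Cfsg.SU 3 F 2) :
    Commute (S.H g (by norm_num : 3 ≤ 4) x) (S.H 1 (by norm_num : 3 ≤ 4) y) := by
  have hne : ∀ a b : Fin 3, a ≠ b → (pts (by omega : 3 ≤ n) g a : ℕ) ≠ pts (by omega : 3 ≤ n) g b :=
    fun a b h e => h (pts_injective (by omega : 3 ≤ n) g (Fin.ext e))
  have := hg 0; have := hg 1; have := hg 2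
  have := hne 0 1 (by decide); have := hne 0 2 (by decide); have := hne 1 2 (by decide)
  have h6 : 6 ≤ n := by omega
  have N3 := R.norm_three hμ hμ1 hA hp03
  obtain ⟨τ, hτ, hfA, hfY⟩ := R.far h6
  set X := S.H g03 (by norm_num : 2 ≤ 4) (PhanAmalgam.tor hF μ hμ)
  set e := S.H 1 (by norm_num : 3 ≤ 4) A
  have hτe : ∀ z, Commute e (S.H τ (by norm_num : 3 ≤ 4) z) := fun z =>
    of_mem_centralizer (top_mem hμ S hμ1 hA _ (fun g' s hg' w => mem_centralizer_of
      (R.pair_block hμ hμ1 hA hp03 g' (fun i => by rw [hg', hτ]; omega) w A).symm)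
      (mem_centralizer_of hfA.symm) (mem_centralizer_of hfY.symm) z)
  have hτY : ∀ z, Commute (S.H τ (by norm_num : 3 ≤ 4) z) (X * e * X⁻¹) := fun z => by
    obtain ⟨σ, hσ⟩ := exists_even_free (n := n) (k := 4) (by omega)
      (f := ![(⟨0, by omega⟩ : Fin n), ⟨3, by omega⟩, ⟨4, by omega⟩, ⟨5, by omega⟩])
      (fun i j e => by fin_cases i <;> fin_cases j <;> simp at e ⊢)
    have hσ' : ∀ i : Fin 4, (pts (by omega : 4 ≤ n) σ i : ℕ) = ![0, 3, 4, 5] i := fun i => by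
      refine (congrArg Fin.val (hσ i (by omega))).trans ?_
      fin_cases i <;> rfl
    have hXW : X ∈ S.W σ := S.R_le_W (fun i => ⟨![0, 1] i, Fin.ext (by rw [hp03, hσ']; fin_cases i <;> rfl)⟩) ⟨_, rfl⟩
    have hτW : (S.H τ (by norm_num : 3 ≤ 4)).range ≤ S.W σ := Sys.V_le_W N3 fun i => ⟨i.succ, Fin.ext (by
      rw [hσ', hτ]; fin_cases i <;> rfl)⟩
    obtain ⟨t, ht, -, hn'⟩ := normal hμ hp03 τ σ (by norm_num : 3 ≤ 4) hXW hτW
    obtain ⟨z', rfl⟩ := ht z
    rw [← hn' z']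
    exact (hτe z').symm.map (MulAut.conj X).toMonoidHom
  have hτV : ∀ z w, Commute (S.H τ (by norm_num : 3 ≤ 4) z) (S.H 1 (by norm_num : 3 ≤ 4) w) := fun z w => by
    refine of_mem_centralizer (top_mem hμ S hμ1 hA _ (fun g' s hg' v => mem_centralizer_of ?_)
      (mem_centralizer_of (hτe z).symm) (mem_centralizer_of ?_) w)
    · have h1 := R.pair_block hμ hμ1 hA hp03 (τ⁻¹ * g') (fun i => not_lt.1 fun hlt => ?_) v z
      · have h2 := h1.map (MulAut.conj (S.a τ)).toMonoidHom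
        simp only [MulEquiv.coe_toMonoidHom, MulAut.conj_apply, S.conj_H, mul_one, mul_inv_cancel_left] at h2
        exact h2.symm
      · have h4 := hτ ⟨_, hlt⟩
        have h5 : pts (by omega : 3 ≤ n) τ ⟨_, hlt⟩ = pts (by omega : 2 ≤ n) g' i := by
          show (τ : Perm (Fin n)) ((τ : Perm (Fin n))⁻¹ _) = _
          rw [Perm.inv_def, Equiv.apply_symm_apply]; rfl
        rw [h5, hg'] at h4
        simp [pts] at h4
        omega
    · rw [yMat_eq hμ hp03]; exact hτY z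
  obtain ⟨j, hj, hj'⟩ := exists_even_swap (n := n) (k := 6) h6
    (f := ![⟨0, by omega⟩, ⟨1, by omega⟩, ⟨2, by omega⟩, pts (by omega : 3 ≤ n) g 0, pts (by omega : 3 ≤ n) g 1,
      pts (by omega : 3 ≤ n) g 2])
    (fun a b e => by fin_cases a <;> fin_cases b <;> simp [Fin.ext_iff] at e ⊢ <;> omega)
    (p := 1) (r := 2) (by decide)
  have hjg : ∀ i : Fin 3, ∃ l, pts (by omega : 3 ≤ n) g i = pts (by omega : 3 ≤ n) (j * τ) l := fun i => ⟨i, by
    show _ = (j : Perm (Fin n)) (pts (by omega : 3 ≤ n) τ i)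
    rw [show pts (by omega : 3 ≤ n) τ i = ⟨(i : ℕ) + 3, by omega⟩ from Fin.ext (hτ i)]
    fin_cases i
    · exact (hj 3 (by simp; omega) (by decide) (by decide)).symm
    · exact (hj 4 (by simp; omega) (by decide) (by decide)).symm
    · exact (hj 5 (by simp; omega) (by decide) (by decide)).symm⟩
  have hj1 : ∀ i : Fin 3, ∃ l, pts (by omega : 3 ≤ n) 1 i = pts (by omega : 3 ≤ n) j l := fun i => by
    show ∃ l : Fin 3, Fin.castLE (by omega : 3 ≤ n) i = (j : Perm (Fin n)) (Fin.castLE (by omega : 3 ≤ n) l)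
    rcases hj' with ⟨e1, e2⟩ | ⟨e1, e2⟩ <;> fin_cases i
    exacts [⟨0, (hj 0 (by simp; omega) (by decide) (by decide)).symm⟩, ⟨1, e1.symm⟩, ⟨2, e2.symm⟩,
      ⟨0, (hj 0 (by simp; omega) (by decide) (by decide)).symm⟩, ⟨2, e2.symm⟩, ⟨1, e1.symm⟩]
  obtain ⟨x', hx'⟩ := Sys.V_le N3 hjg ⟨x, rfl⟩
  obtain ⟨y', hy'⟩ := Sys.V_le N3 hj1 ⟨y, rfl⟩
  rw [← hx', ← hy', ← S.conj_H, ← mul_one j, ← S.conj_H j 1, mul_one]
  exact (hτV x' y').map (MulAut.conj (S.a j)).toMonoidHom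

end Diagonal

include hμ1 hA in
theorem three (R : RelTwo hF S μ hμ A) : S.Three := by
  obtain ⟨g03, hg03⟩ := exists_even_free (n := n) (k := 2) (by omega)
    (inj_two (a := ⟨0, by omega⟩) (b := ⟨3, by omega⟩) (by simp))
  have hp03 : ∀ i : Fin 2, (pts (by omega : 2 ≤ n) g03 i : ℕ) = ![0, 3] i := fun i => by
    refine (congrArg Fin.val (hg03 i (by omega))).trans ?_
    fin_cases i <;> rfl
  exact ⟨R.norm_three hμ hμ1 hA hp03, R.pair_block hμ hμ1 hA hp03, R.block_block hμ hμ1 hA hp03⟩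

end RelTwo

end Cfsg.Agent.SUnPresentation
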