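/-
Area SUnPresentation: `SU_n(q)`, `n ≥ 5`, on six generators with thirty-nine relators, thirty-five for `n = 5`.
-/
import Cfsg.Agent.Lib.SUnPresentation.Two
import Cfsg.Agent.Lib.SU4Presentation.Main
import Cfsg.Agent.Lib.SLnPresentation.Main
import Cfsg.Agent.Lib.SLnPresentation.Five
import Cfsg.Agent.Lib.BoundedPres.Short.Main
import Cfsg.Agent.Lib.BoundedPres.SpPres
import Cfsg.Agent.Lib.BoundedPres.PSL

set_option autoImplicit false

open scoped Matrix

namespace Cfsg.Agent.SUnPresentation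

open Equiv Cfsg.Agent.ClassicalSimple Cfsg.Agent.PhanAmalgam Cfsg.Agent.BoundedPres

universe u

/-- A presented isomorphism gives a presentation on the named tuple. -/
theorem tup_of_iso {G : Type u} [Group G] {k r : ℕ} {R : Finset (FreeGroup (Fin k))} (hR : R.card ≤ r)
    (e : PresentedGroup (↑R : Set (FreeGroup (Fin k))) ≃* G) :
    Short.Tup (fun i => e (PresentedGroup.of i)) r := by
  refine ⟨R.toList, (Finset.length_toList R).trans_le hR, Short.closure_range_map (PresentedGroup.closure_range_of _) e,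
    fun w hw => ?_, fun Q _ g' hg' => ?_⟩
  · have : FreeGroup.lift (fun i => e (PresentedGroup.of i)) = e.toMonoidHom.comp (PresentedGroup.mk _) :=
      FreeGroup.ext_hom _ _ fun i => by simp [PresentedGroup.of]
    rw [this, MonoidHom.comp_apply, PresentedGroup.one_of_mem (Finset.mem_toList.1 hw), map_one]
  · exact ⟨(PresentedGroup.toGroup fun w hw => hg' w (Finset.mem_toList.2 hw)).comp e.symm.toMonoidHom,
      fun i => by simp⟩

/-- The alternating group on two generators. -/
theorem alt_tup {n : ℕ} (hn : 5 ≤ n) :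
    ∃ g : Fin 2 → alternatingGroup (Fin n), Short.Tup g (if n = 5 then 3 else 7) := by
  by_cases h : n = 5
  · subst h
    obtain ⟨R, hR, ⟨e⟩⟩ := SLnPresentation.alt_five
    exact ⟨_, tup_of_iso hR e⟩
  · obtain ⟨g, hg, hgen⟩ := Short.alt_big n hn
    rw [if_neg h]
    exact ⟨_, hg.restrict Fin.succ (Fin.succ_injective 2) hgen⟩

/-- Two generators of the stabiliser of the first pair. -/
theorem exists_two_stab {n : ℕ} (hn : 2 ≤ n) : ∃ u v : alternatingGroup (Fin n),
    Stab 2 (u : Perm (Fin n)) ∧ Stab 2 (v : Perm (Fin n)) ∧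
      ∀ g : alternatingGroup (Fin n), Stab 2 (g : Perm (Fin n)) →
        g ∈ Subgroup.closure ({u, v} : Set (alternatingGroup (Fin n))) := by
  obtain ⟨m, rfl⟩ : ∃ m, n = 2 + m := ⟨n - 2, by omega⟩
  exact exists_pair_stab m

variable {F : Type*} [Field F] [Fintype F] {q : ℕ} (hF : Fintype.card F = q ^ 2)

include hF in
theorem su2_two_gen : ∃ z₁ z₂ : Cfsg.SU 2 F q, Subgroup.closure ({z₁, z₂} : Set (Cfsg.SU 2 F q)) = ⊤ := by
  obtain ⟨K, iK, iK', -, ⟨e⟩⟩ := exists_sl2 hF
  obtain ⟨⟨a, b⟩, hab⟩ := Slim.exists_two_gen_sl (F := K)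
  refine ⟨e.symm a, e.symm b, ?_⟩
  have h := MonoidHom.map_closure e.symm.toMonoidHom {a, b}
  rw [hab, Subgroup.map_top_of_surjective _ e.symm.surjective, Set.image_insert_eq, Set.image_singleton] at h
  exact h.symm

variable {n : ℕ}

/-- The extra relators over the field with four elements exist. -/
theorem exists_extra (hn : 5 ≤ n) {gA : Fin 2 → alternatingGroup (Fin n)} {gS : Fin 4 → Cfsg.SU 4 F q}
    (WA : alternatingGroup (Fin n) → FreeGroup (Fin (2 + 4))) (WS : Cfsg.SU 4 F q → FreeGroup (Fin (2 + 4)))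
    (M : FreeGroup (Fin (2 + 4)) →* Cfsg.SU n F q) (hMA : ∀ h, M (WA h) = pm hF h)
    (hMS : ∀ y, M (WS y) = embS hF (Fin.castLE_injective (by omega : 4 ≤ n)) y) :
    ∃ R : List (FreeGroup (Fin (2 + 4))), R.length ≤ (if q = 2 then if n = 5 then 3 else 5 else 0) ∧
      (∀ w ∈ R, M w = 1) ∧
      ∀ {G : Type} [Group G] (S : Sys hF n hn G) (φ : FreeGroup (Fin (2 + 4)) →* G),
        (∀ h, φ (WA h) = S.a h) → (∀ y, φ (WS y) = S.ι y) → (∀ w ∈ R, φ w = 1) → S.Three := by
  by_cases h2 : q = 2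
  swap
  · exact ⟨[], by simp [h2], by simp, fun S _ _ _ _ => S.three_of_large (by
      have := Forms.one_lt_q hF; omega)⟩
  subst h2
  obtain ⟨μ, hμ, hμ1⟩ := exists_root_two hF
  obtain ⟨A, -, -, -, -, hA⟩ := exists_order_four hμ hμ1 hF
  obtain ⟨u, v, huv, hgen⟩ := exists_three_stab (n := n) (by omega)
  obtain ⟨g34, hg34⟩ := exists_even_free (n := n) (k := 2) (by omega)
    (inj_two (a := (⟨3, by omega⟩ : Fin n)) (b := ⟨4, by omega⟩) (by simp))
  have hp34 : ∀ k : Fin 2, (pts (by omega : 2 ≤ n) g34 k : ℕ) = k + 3 := fun k => by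
    refine (congrArg Fin.val (hg34 k (by omega))).trans ?_
    fin_cases k <;> rfl
  obtain ⟨τ, hτ⟩ : ∃ τ : alternatingGroup (Fin n), 6 ≤ n → ∀ k : Fin 3, (pts (by omega : 3 ≤ n) τ k : ℕ) = k + 3 := by
    by_cases h6 : 6 ≤ n
    · obtain ⟨τ, hτ⟩ := exists_even_free (n := n) (k := 3) (by omega)
        (f := fun k => (⟨(k : ℕ) + 3, by omega⟩ : Fin n)) fun i j e => Fin.ext (by simpa [Fin.ext_iff] using e)
      exact ⟨τ, fun _ k => congrArg Fin.val (hτ k (by omega))⟩
    · exact ⟨1, fun h => absurd h h6⟩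
  let WH : alternatingGroup (Fin n) → Cfsg.SU 4 F 2 → FreeGroup (Fin (2 + 4)) := fun g y => WA g * WS y * (WA g)⁻¹
  let i2 : Cfsg.SU 2 F 2 →* Cfsg.SU 4 F 2 := embS hF (Fin.castLE_injective (by norm_num : 2 ≤ 4))
  let i3 : Cfsg.SU 3 F 2 →* Cfsg.SU 4 F 2 := embS hF (Fin.castLE_injective (by norm_num : 3 ≤ 4))
  let e := WS (i3 A)
  let cm : FreeGroup (Fin (2 + 4)) → FreeGroup (Fin (2 + 4)) := fun x => x * e * x⁻¹ * e⁻¹
  refine ⟨[cm (WA u), cm (WA v), cm (WH g34 (i2 (tor hF μ hμ)))] ++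
    (if n = 5 then [] else [cm (WH τ (i3 A)), cm (WH τ (i3 (yMat hF hμ A)))]), ?_, ?_, ?_⟩
  · by_cases h5 : n = 5 <;> simp [h5]
  · have hMH : ∀ (g : alternatingGroup (Fin n)) {m : ℕ} (hm : m ≤ 4) (x : Cfsg.SU m F 2),
        M (WH g (embS hF (Fin.castLE_injective hm) x)) = embS hF (pts_injective (by omega : m ≤ n) g) x := fun g m hm x => by
      simp only [WH]
      rw [map_mul, map_mul, map_inv, hMA, hMS, embS_comp, pm_conj_embS]
      exact embS_congr hF (fun k => rfl) _ _ x
    have he : M e = embS hF (Fin.castLE_injective (by omega : 3 ≤ n)) A := by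
      simp only [e, i3]
      rw [hMS, embS_comp]
    have hcm : ∀ x, Commute (M x) (M e) → M (cm x) = 1 := fun x h => by
      simp only [cm, map_mul, map_inv]
      rw [h.eq]; group
    have hAA : ∀ σ : Perm (Fin 3), σ = 1 ∨ σ = swap 1 2 → embS hF σ.injective A = A := by
      have hA' : A.1.1 = !![1, 1, 1; 1, μ, μ ^ 2; 1, μ ^ 2, μ] := hA
      intro σ hσ
      refine Subtype.ext (Subtype.ext (Matrix.ext fun i j => ?_))
      obtain ⟨i, rfl⟩ := σ.surjective i
      obtain ⟨j, rfl⟩ := σ.surjective j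
      rw [embS_apply, hA']
      rcases hσ with rfl | rfl <;> fin_cases i <;> fin_cases j <;> simp [swap_apply_def]
    have hinv : ∀ g ∈ ({u, v} : Set (alternatingGroup (Fin n))), Commute (pm hF g) (M e) := by
      intro g hg
      obtain ⟨h0, h3⟩ := huv g hg
      rw [he]
      show pm hF g * _ = _ * pm hF g
      rw [← mul_inv_eq_iff_eq_mul, pm_conj_embS]
      obtain ⟨σ, hσ, hσ'⟩ : ∃ σ : Perm (Fin 3), (σ = 1 ∨ σ = swap 1 2) ∧
          ∀ k : Fin 3, (g : Perm (Fin n)) (Fin.castLE (by omega) k) = Fin.castLE (by omega) (σ k) := by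
        have h1 := h3 ⟨1, by omega⟩ (by simp)
        have h2 := h3 ⟨2, by omega⟩ (by simp)
        have hne : ∀ a b : Fin n, (a : ℕ) ≠ b → ((g : Perm (Fin n)) a : ℕ) ≠ (g : Perm (Fin n)) b :=
          fun a b h e => h (congrArg Fin.val ((g : Perm (Fin n)).injective (Fin.ext e)))
        have e1 := hne ⟨0, by omega⟩ ⟨1, by omega⟩ (by simp)
        have e2 := hne ⟨0, by omega⟩ ⟨2, by omega⟩ (by simp)
        have e3 := hne ⟨1, by omega⟩ ⟨2, by omega⟩ (by simp)
        rw [h0] at e1 e2
        simp only at e1 e2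
        rcases (by omega : (((g : Perm (Fin n)) ⟨1, by omega⟩ : Fin n) : ℕ) = 1 ∨
            (((g : Perm (Fin n)) ⟨1, by omega⟩ : Fin n) : ℕ) = 2) with h | h
        · refine ⟨1, Or.inl rfl, fun k => Fin.ext ?_⟩
          fin_cases k
          · exact congrArg Fin.val h0
          · exact h
          · show (((g : Perm (Fin n)) ⟨2, _⟩ : Fin n) : ℕ) = 2; omega
        · refine ⟨swap 1 2, Or.inr rfl, fun k => Fin.ext ?_⟩
          fin_cases k
          · exact congrArg Fin.val h0
          · exact h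
          · show (((g : Perm (Fin n)) ⟨2, _⟩ : Fin n) : ℕ) = 1; omega
      conv_rhs => rw [← hAA σ hσ, embS_comp]
      exact embS_congr hF (fun k => hσ' k) _ _ A
    intro w hw
    simp only [List.mem_append, List.mem_cons, List.not_mem_nil, or_false] at hw
    rcases hw with (rfl | rfl | rfl) | hw
    · exact hcm _ (hMA u ▸ hinv u (Or.inl rfl))
    · exact hcm _ (hMA v ▸ hinv v (Or.inr rfl))
    · refine hcm _ ?_
      rw [hMH, he]
      exact embS_commute hF _ _ (fun k l e => by
        have e' := congrArg Fin.val e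
        rw [hp34] at e'; simp at e'; omega) _ _
    · by_cases h5 : n = 5
      · simp [h5] at hw
      · rw [if_neg h5] at hw
        simp only [List.mem_cons, List.not_mem_nil, or_false] at hw
        rcases hw with rfl | rfl <;> refine hcm _ ?_ <;> rw [hMH, he] <;>
          exact embS_commute hF _ _ (fun k l e => by
            have e' := congrArg Fin.val e
            rw [hτ (by omega)] at e'; simp at e'; omega) _ _
  · intro G _ S φ ha hι hR
    have hcm : ∀ x, φ (cm x) = 1 → Commute (φ x) (S.H 1 (by norm_num : 3 ≤ 4) A) := fun x h => by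
      simp only [cm, e, i3, map_mul, map_inv, hι] at h
      rw [S.H_apply, map_one, one_mul, inv_one, mul_one]
      exact mul_inv_eq_one.1 h |> mul_inv_eq_iff_eq_mul.1
    have hH : ∀ (g : alternatingGroup (Fin n)) {m : ℕ} (hm : m ≤ 4) (x : Cfsg.SU m F 2),
        φ (WH g (embS hF (Fin.castLE_injective hm) x)) = S.H g hm x := fun g m hm x => by
      simp only [WH, map_mul, map_inv, ha, hι]
      rfl
    refine RelTwo.three hμ hμ1 hA (R := ⟨fun k h0 h3 => ?_, ⟨g34, hp34, ?_⟩, fun h6 => ⟨τ, hτ h6, ?_, ?_⟩⟩)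
    · have hle : Subgroup.closure ({u, v} : Set (alternatingGroup (Fin n))) ≤
          (Subgroup.centralizer {S.H 1 (by norm_num : 3 ≤ 4) A}).comap S.a := by
        rw [Subgroup.closure_le]
        rintro g (rfl | rfl) <;> refine mem_centralizer_of (ha _ ▸ hcm _ (hR _ ?_)).symm <;> simp
      exact (of_mem_centralizer (hle (hgen k h0 h3))).symm
    · rw [← hH]; exact hcm _ (hR _ (by simp [i2]))
    · rw [← hH]; exact hcm _ (hR _ (by simp [i3, show n ≠ 5 by omega]))
    · rw [← hH]; exact hcm _ (hR _ (by simp [i3, show n ≠ 5 by omega]))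

include hF in
/-- `SU_n` on six generators. -/
theorem su_tup (hn : 5 ≤ n) :
    ∃ g : Fin (2 + 4) → Cfsg.SU n F q, Short.Tup g (if n = 5 then 35 else 39) := by
  classical
  obtain ⟨gA, RA, hRA, hgA, hrelA, hunA⟩ := alt_tup hn
  obtain ⟨gS, RS, hRS, hgS, hrelS, hunS⟩ := SU4Presentation.su4_presentation hF
  choose wa hwa using lift_surjective hgA
  choose ws hws using lift_surjective hgS
  let jA : FreeGroup (Fin 2) →* FreeGroup (Fin (2 + 4)) := FreeGroup.map (Fin.castAdd 4)
  let jS : FreeGroup (Fin 4) →* FreeGroup (Fin (2 + 4)) := FreeGroup.map (Fin.natAdd 2)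
  let WA : alternatingGroup (Fin n) → FreeGroup (Fin (2 + 4)) := fun h => jA (wa h)
  let WS : Cfsg.SU 4 F q → FreeGroup (Fin (2 + 4)) := fun y => jS (ws y)
  have h4 : 4 ≤ n := by omega
  let g0 : Fin (2 + 4) → Cfsg.SU n F q :=
    Fin.append (pm hF ∘ gA) (embS hF (Fin.castLE_injective h4) ∘ gS)
  let M := FreeGroup.lift g0
  have hMjA : ∀ w, M (jA w) = pm hF (FreeGroup.lift gA w) := fun w => by
    have : M.comp jA = (pm hF).comp (FreeGroup.lift gA) := FreeGroup.ext_hom _ _ fun i => by simp [M, jA, g0]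
    exact DFunLike.congr_fun this w
  have hMjS : ∀ w, M (jS w) = embS hF (Fin.castLE_injective h4) (FreeGroup.lift gS w) := fun w => by
    have : M.comp jS = (embS hF (Fin.castLE_injective h4)).comp (FreeGroup.lift gS) :=
      FreeGroup.ext_hom _ _ fun i => by simp [M, jS, g0]
    exact DFunLike.congr_fun this w
  have hMA : ∀ h, M (WA h) = pm hF h := fun h => by rw [hMjA, hwa]
  have hMS : ∀ y, M (WS y) = embS hF (Fin.castLE_injective h4) y := fun y => by rw [hMjS, hws]
  obtain ⟨RX, hRX, hMX, hThree⟩ := exists_extra hF hn (gA := gA) (gS := gS) WA WS M hMA hMS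
  obtain ⟨u4, v4, huv4, hgen4⟩ := exists_four_gens (n := n) h4
  obtain ⟨u2, v2, hu2, hv2, hgen2⟩ := exists_two_stab (n := n) (by omega)
  obtain ⟨z₁, z₂, hz⟩ := su2_two_gen hF
  have hy1 : ∀ h : alternatingGroup (Fin n), ∃ y : Cfsg.SU 4 F q,
      (∀ x : Fin n, 4 ≤ (x : ℕ) → (h : Perm (Fin n)) x = x) → embS hF (Fin.castLE_injective h4) y = pm hF h := fun h => by
    by_cases hh : ∀ x : Fin n, 4 ≤ (x : ℕ) → (h : Perm (Fin n)) x = x
    · obtain ⟨y, hy⟩ := (mem_range_embS hF (Fin.castLE_injective h4) (pm hF h)).2 fun j hj => by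
        rw [pm_E, hh j]
        by_contra hc
        exact hj ⟨⟨j, not_le.1 hc⟩, Fin.ext rfl⟩
      exact ⟨y, fun _ => hy⟩
    · exact ⟨1, fun e => absurd e hh⟩
  choose y1 hy1 using hy1
  have h2n : 2 ≤ n := by omega
  let i2 : Cfsg.SU 2 F q →* Cfsg.SU 4 F q := embS hF (Fin.castLE_injective (by norm_num : 2 ≤ 4))
  have hy2 : ∀ (h : alternatingGroup (Fin n)) (z : Cfsg.SU 2 F q), ∃ y : Cfsg.SU 2 F q, Stab 2 (h : Perm (Fin n)) →
      pm hF h * embS hF (Fin.castLE_injective h4) (i2 z) * (pm hF h)⁻¹ = embS hF (Fin.castLE_injective h4) (i2 y) := fun h z => by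
    by_cases hh : Stab 2 (h : Perm (Fin n))
    · obtain ⟨y, hy⟩ := (mem_range_embS hF (Fin.castLE_injective h2n)
        (embS hF ((h : Perm (Fin n)).injective.comp (Fin.castLE_injective h2n)) z)).2 fun j hj =>
          embH_fix hF _ z fun ⟨l, hl⟩ => hj ⟨⟨j, by rw [← hl]; exact hh _ l.2⟩, Fin.ext rfl⟩
      refine ⟨y, fun _ => ?_⟩
      rw [show embS hF (Fin.castLE_injective h4) (i2 y) = embS hF (Fin.castLE_injective h2n) y by
        simp only [i2]; rw [embS_comp], hy]
      simp only [i2]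
      rw [embS_comp, pm_conj_embS]
    · exact ⟨1, fun e => absurd e hh⟩
  choose y2 hy2 using hy2
  let r2 : alternatingGroup (Fin n) → Cfsg.SU 2 F q → FreeGroup (Fin (2 + 4)) := fun h z =>
    WA h * WS (i2 z) * (WA h)⁻¹ * (WS (i2 (y2 h z)))⁻¹
  set R := RA.map jA ++ RS.map jS ++ [WA u4 * (WS (y1 u4))⁻¹, WA v4 * (WS (y1 v4))⁻¹,
    r2 u2 z₁, r2 u2 z₂, r2 v2 z₁, r2 v2 z₂] ++ RX with hRdef
  have hlen : R.length ≤ if n = 5 then 35 else 39 := by
    simp only [hRdef, List.length_append, List.length_map, List.length_cons, List.length_nil]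
    by_cases h5 : n = 5 <;> by_cases h2 : q = 2 <;> simp only [h5, h2, if_true, if_false] at hRA hRS hRX ⊢ <;> omega
  have hMR : ∀ w ∈ R, M w = 1 := by
    intro w hw
    simp only [hRdef, List.mem_append, List.mem_map, List.mem_cons, List.not_mem_nil, or_false] at hw
    rcases hw with ((⟨r, hr, rfl⟩ | ⟨r, hr, rfl⟩) | rfl | rfl | rfl | rfl | rfl | rfl) | hw
    · rw [hMjA, hrelA r hr, map_one]
    · rw [hMjS, hrelS r hr, map_one]
    · rw [map_mul, map_inv, hMA, hMS, hy1 u4 fun x hx => (huv4 x hx).1, mul_inv_cancel]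
    · rw [map_mul, map_inv, hMA, hMS, hy1 v4 fun x hx => (huv4 x hx).2, mul_inv_cancel]
    iterate 4
      · simp only [r2, map_mul, map_inv, hMA, hMS]
        rw [hy2 _ _ (by assumption), mul_inv_cancel]
    · exact hMX w hw
  let T := PresentedGroup {w | w ∈ R}
  let φ : FreeGroup (Fin (2 + 4)) →* T := PresentedGroup.mk _
  have hφR : ∀ w ∈ R, φ w = 1 := fun w hw => PresentedGroup.one_of_mem hw
  have hφl : ∀ {k : ℕ} (j : Fin k → Fin (2 + 4)) (w : FreeGroup (Fin k)),
      φ (FreeGroup.map j w) = FreeGroup.lift (fun i => φ (.of (j i))) w := fun j w => by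
    have : φ.comp (FreeGroup.map j) = FreeGroup.lift (fun i => φ (.of (j i))) := FreeGroup.ext_hom _ _ fun i => by simp
    exact DFunLike.congr_fun this w
  obtain ⟨a, ha⟩ := hunA T (fun i => φ (.of (Fin.castAdd 4 i))) fun w hw => by
    rw [← hφl]; exact hφR _ (by simp [hRdef, jA]; left; exact ⟨w, hw, rfl⟩)
  obtain ⟨ι, hι⟩ := hunS T (fun i => φ (.of (Fin.natAdd 2 i))) fun w hw => by
    rw [← hφl]; exact hφR _ (by simp [hRdef, jS]; right; left; exact ⟨w, hw, rfl⟩)
  have hφA : ∀ h, φ (WA h) = a h := fun h => by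
    show φ (FreeGroup.map _ (wa h)) = _
    rw [hφl, show (fun i => φ (.of (Fin.castAdd 4 i))) = a ∘ gA from funext fun i => (ha i).symm, ← lift_map, hwa]
  have hφS : ∀ y, φ (WS y) = ι y := fun y => by
    show φ (FreeGroup.map _ (ws y)) = _
    rw [hφl, show (fun i => φ (.of (Fin.natAdd 2 i))) = ι ∘ gS from funext fun i => (hι i).symm, ← lift_map, hws]
  let π : T →* Cfsg.SU n F q := PresentedGroup.toGroup (f := g0) hMR
  have hπ : ∀ i, π (φ (.of i)) = g0 i := fun i => PresentedGroup.toGroup.of hMR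
  have hπφ : ∀ w, π (φ w) = M w := fun w => by
    have : π.comp φ = M := FreeGroup.ext_hom _ _ fun i => by rw [MonoidHom.comp_apply, hπ]; simp [M]
    exact DFunLike.congr_fun this w
  have hG1 : ∀ h ∈ Subgroup.closure ({u4, v4} : Set (alternatingGroup (Fin n))), a h ∈ ι.range := by
    intro h hh
    refine (Subgroup.closure_le (ι.range.comap a)).2 ?_ hh
    intro g hg
    rcases hg with hg | hg <;> show a g ∈ ι.range <;> rw [hg]
    · refine ⟨y1 u4, ?_⟩
      have := hφR (WA u4 * (WS (y1 u4))⁻¹) (by simp [hRdef])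
      rw [map_mul, map_inv, hφA, hφS, mul_inv_eq_one] at this
      exact this.symm
    · refine ⟨y1 v4, ?_⟩
      have := hφR (WA v4 * (WS (y1 v4))⁻¹) (by simp [hRdef])
      rw [map_mul, map_inv, hφA, hφS, mul_inv_eq_one] at this
      exact this.symm
  have hG2 : ∀ h ∈ Subgroup.closure ({u2, v2} : Set (alternatingGroup (Fin n))), ∀ x, a h * ι (i2 x) * (a h)⁻¹ ∈ (ι.comp i2).range := by
    intro h hh
    have hh' : h ∈ Submonoid.closure ({u2, v2} : Set (alternatingGroup (Fin n))) := by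
      rw [← Subgroup.closure_toSubmonoid_of_finite]; exact hh
    clear hh
    induction hh' using Submonoid.closure_induction with
    | mem g hg =>
      intro x
      have hle : ⊤ ≤ (ι.comp i2).range.comap ((MulAut.conj (a g)).toMonoidHom.comp (ι.comp i2)) := by
        rw [← hz, Subgroup.closure_le]
        rintro z hz'
        refine ⟨y2 g z, ?_⟩
        have := hφR (r2 g z) (by
          rcases hg with rfl | rfl <;> rcases hz' with rfl | rfl <;> simp [hRdef])
        simp only [r2, map_mul, map_inv, hφA, hφS, mul_inv_eq_one] at this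
        exact this.symm
      exact hle (Subgroup.mem_top x)
    | one => intro x; exact ⟨x, by simp⟩
    | mul g k _ _ ihg ihk =>
      intro x
      obtain ⟨x', hx'⟩ := ihk x
      obtain ⟨x'', hx''⟩ := ihg x'
      refine ⟨x'', ?_⟩
      rw [hx'', show ι (i2 x') = _ from hx', map_mul]
      group
  let S : Sys hF n hn T :=
    { a := a, ι := ι, π := π
      hπa := fun g => by rw [← hφA, hπφ, hMA]
      hπι := fun y => by rw [← hφS, hπφ, hMS]
      G1 := fun h hh => hG1 h (hgen4 h hh)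
      G2 := fun h hh => hG2 h (hgen2 h hh)
      gen := by
        rw [eq_top_iff, ← PresentedGroup.closure_range_of {w | w ∈ R}, Subgroup.closure_le]
        rintro _ ⟨i, rfl⟩
        revert i
        refine Fin.addCases (m := 2) (n := 4) (fun i => ?_) (fun i => ?_)
        · exact Subgroup.mem_sup_left ⟨gA i, ha i⟩
        · exact Subgroup.mem_sup_right ⟨gS i, hι i⟩ }
  have hbij : Function.Bijective π :=
    Sys.π_bijective (hThree S φ hφA hφS fun w hw => hφR w (by simp [hRdef, hw]))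
  let E := MulEquiv.ofBijective π hbij
  refine ⟨g0, R, hlen, ?_, hMR, fun Q _ g' hg' => ⟨(PresentedGroup.toGroup (rels := {w | w ∈ R}) (f := g') hg').comp E.symm.toMonoidHom, fun i => ?_⟩⟩
  · have h := Short.closure_range_map (PresentedGroup.closure_range_of {w | w ∈ R}) E
    have e : (fun i => E (PresentedGroup.of i)) = g0 := funext fun i => hπ i
    exact e ▸ h
  · have : E.symm (g0 i) = PresentedGroup.of i := by
      rw [MulEquiv.symm_apply_eq]
      exact (hπ i).symm
    simp [this]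

include hF in
/-- The central quotient costs one more relator. -/
theorem psu_presentation (hn : 3 ≤ n) {k r : ℕ} {rels : Finset (FreeGroup (Fin k))} (hr : rels.card ≤ r)
    (e : PresentedGroup (↑rels : Set (FreeGroup (Fin k))) ≃* ↥(Cfsg.SU n F q)) :
    ∃ rels' : Finset (FreeGroup (Fin k)), rels'.card ≤ r + 1 ∧
      Nonempty (PresentedGroup (↑rels' : Set (FreeGroup (Fin k))) ≃* Cfsg.PSU n F q) := by
  obtain ⟨z, hz⟩ := exists_normalClosure_center (center_cyclic hF hn)
  exact SLnPresentation.exists_quot hr e _ z hz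

include hF in
/-- `SU₄` on six generators. -/
theorem su_four_six : ∃ rels : Finset (FreeGroup (Fin 6)), rels.card ≤ 28 ∧
    Nonempty (PresentedGroup (↑rels : Set (FreeGroup (Fin 6))) ≃* ↥(Cfsg.SU 4 F q)) := by
  obtain ⟨g, hg⟩ := SU4Presentation.su4_presentation hF
  obtain ⟨rels, hr, ⟨e⟩⟩ := hg.presented
  exact SLnPresentation.exists_pad (d := 2) (hr.trans (by split <;> norm_num)) e

end Cfsg.Agent.SUnPresentation
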